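import Cfsg.Agent.Lib.Classical.FieldExtOrth3.Basic
import Mathlib.Combinatorics.Enumerative.DoubleCounting

/-!
# Isotropic vectors of non-degenerate forms of odd dimension
-/

set_option autoImplicit false
set_option linter.unusedSectionVars false

namespace CfsgLib.Classical.FieldExtOrth3

open Module QuadraticMap CfsgLib.Orth

variable {F : Type*} [Field F] [Fintype F]

/-- A similitude of a binary form with non-square multiplier. -/
theorem exists_binary_similitude (h2 : (2 : F) ≠ 0) {a b ε : F} (ha : a ≠ 0) (hb : b ≠ 0) (hε : ε ≠ 0) :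
    ∃ T : F × F ≃ F × F, ∀ p : F × F,
      a * ((T p).1 * (T p).1) + b * ((T p).2 * (T p).2) = ε * (a * (p.1 * p.1) + b * (p.2 * p.2)) := by
  classical
  have hodd : Fintype.card F % 2 = 1 := FiniteField.odd_card_of_char_ne_two fun e => h2 (by
    haveI := ringChar.of_eq e; exact CharTwo.two_eq_zero)
  obtain ⟨s, u, h0⟩ := FiniteField.exists_root_sum_quadratic (R := F)
    (f := Polynomial.C a * Polynomial.X ^ 2 - Polynomial.C (ε * a)) (g := Polynomial.C b * Polynomial.X ^ 2)
    (by rw [Polynomial.degree_sub_C (by simp [Polynomial.degree_C_mul_X_pow 2 ha]),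
          Polynomial.degree_C_mul_X_pow 2 ha]; norm_num)
    (by rw [Polynomial.degree_C_mul_X_pow 2 hb]; norm_num) hodd
  simp only [Polynomial.eval_sub, Polynomial.eval_mul, Polynomial.eval_C, Polynomial.eval_pow,
    Polynomial.eval_X] at h0
  let T : F × F → F × F := fun p => (s * p.1 - b / a * u * p.2, u * p.1 + s * p.2)
  have hTi : Function.Injective T := by
    intro p p' e
    simp only [T, Prod.mk.injEq] at e
    have e0 : s * s + b / a * (u * u) = ε := by field_simp; linear_combination h0
    have e1 : ε * p.1 = ε * p'.1 := by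
      linear_combination s * e.1 + b / a * u * e.2 - (p.1 - p'.1) * e0
    have e2 : ε * p.2 = ε * p'.2 := by
      linear_combination s * e.2 - u * e.1 - (p.2 - p'.2) * e0
    exact Prod.ext (mul_left_cancel₀ hε e1) (mul_left_cancel₀ hε e2)
  refine ⟨Equiv.ofBijective T (Finite.injective_iff_bijective.1 hTi), fun p => ?_⟩
  show a * ((s * p.1 - b / a * u * p.2) * (s * p.1 - b / a * u * p.2)) +
    b * ((u * p.1 + s * p.2) * (u * p.1 + s * p.2)) = _
  field_simp
  linear_combination (a * (p.1 * p.1) + b * (p.2 * p.2)) * h0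

/-- A diagonal form in odd dimension. -/
theorem card_zero_diag {j : ℕ} {ε : F} (h2 : (2 : F) ≠ 0) (hε : ¬ IsSquare ε) {w₀ : F} (hw₀ : w₀ ≠ 0)
    {w w' : Fin j → F} (hw : ∀ i, w i ≠ 0) (hw' : ∀ i, w' i ≠ 0) [DecidableEq F] :
    Fintype.card F * (Finset.univ.filter fun x : F × (Fin j → F × F) =>
      w₀ * (x.1 * x.1) + ∑ i, (w i * ((x.2 i).1 * (x.2 i).1) + w' i * ((x.2 i).2 * (x.2 i).2)) = 0).card =
      Fintype.card (F × (Fin j → F × F)) := by
  classical
  have hε0 : ε ≠ 0 := by rintro rfl; exact hε IsSquare.zero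
  set q : (Fin j → F × F) → F := fun v => ∑ i, (w i * ((v i).1 * (v i).1) + w' i * ((v i).2 * (v i).2)) with hq
  set N : F → ℕ := fun c => (Finset.univ.filter fun v => q v = c).card with hN
  have hscale : ∀ {l : F}, l ≠ 0 → ∀ c, N (l * l * c) = N c := by
    intro l hl c
    refine (Finset.card_equiv (MulAction.toPerm (Units.mk0 l hl) : Equiv.Perm (Fin j → F × F)) fun v => ?_).symm
    have e : q (l • v) = l * l * q v := by
      simp only [hq, Finset.mul_sum]
      refine Finset.sum_congr rfl fun i _ => ?_
      simp only [Pi.smul_apply, Prod.smul_fst, Prod.smul_snd, smul_eq_mul]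
      ring
    simp only [Finset.mem_filter, Finset.mem_univ, true_and, MulAction.toPerm_apply, Units.smul_def,
      Units.val_mk0, e]
    exact ⟨fun h => by rw [h], fun h => mul_left_cancel₀ (mul_ne_zero hl hl) h⟩
  choose T hT using fun i => exists_binary_similitude (ε := ε) h2 (hw i) (hw' i) hε0
  have hflip : ∀ c, N (ε * c) = N c := by
    intro c
    refine (Finset.card_equiv (Equiv.piCongrRight T) fun v => ?_).symm
    have e : q (Equiv.piCongrRight T v) = ε * q v := by
      simp only [hq, Finset.mul_sum]
      exact Finset.sum_congr rfl fun i _ => hT i (v i)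
    simp only [Finset.mem_filter, Finset.mem_univ, true_and, e]
    exact ⟨fun h => by rw [h], fun h => mul_left_cancel₀ hε0 h⟩
  have hchar : ringChar F ≠ 2 := fun e => h2 (by haveI := ringChar.of_eq e; exact CharTwo.two_eq_zero)
  have hconst : ∀ c : F, c ≠ 0 → N c = N 1 := by
    intro c hc
    by_cases hsq : IsSquare c
    · obtain ⟨l, rfl⟩ := hsq
      have := hscale (left_ne_zero_of_mul hc) 1
      rwa [mul_one] at this
    · have e1 := quadraticChar_neg_one_iff_not_isSquare.2 hsq
      have e2 := quadraticChar_neg_one_iff_not_isSquare.2 hε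
      obtain ⟨l, hl⟩ : IsSquare (ε * c) := by
        refine (quadraticChar_one_iff_isSquare (mul_ne_zero hε0 hc)).1 ?_
        rw [map_mul, e1, e2]; norm_num
      rw [← hflip c, hl]
      have hl0 : l ≠ 0 := by rintro rfl; exact mul_ne_zero hε0 hc (by rw [hl, mul_zero])
      have := hscale hl0 1
      rwa [mul_one] at this
  have hI : (Finset.univ.filter fun x : F × (Fin j → F × F) => w₀ * (x.1 * x.1) + q x.2 = 0).card =
      ∑ y : F, N (-(w₀ * (y * y))) := by
    simp only [hN, Finset.card_filter, Fintype.sum_prod_type]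
    exact Finset.sum_congr rfl fun y _ => Finset.sum_congr rfl fun v _ =>
      if_congr ⟨eq_neg_of_add_eq_zero_right, fun e => by rw [e, add_neg_cancel]⟩ rfl rfl
  have htot : Fintype.card (Fin j → F × F) = ∑ c : F, N c := by
    simp only [hN]
    rw [← Finset.card_univ, Finset.card_eq_sum_card_fiberwise (f := q) (t := Finset.univ) (by simp)]
  show _ * (Finset.univ.filter fun x : F × (Fin j → F × F) => w₀ * (x.1 * x.1) + q x.2 = 0).card = _
  rw [hI, Fintype.card_prod, htot]
  congr 1
  refine Finset.sum_congr rfl fun y _ => ?_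
  rcases eq_or_ne y 0 with rfl | hy
  · simp
  · rw [hconst _ hy, hconst _ (neg_ne_zero.2 (mul_ne_zero hw₀ (mul_ne_zero hy hy)))]

/-- A non-degenerate form of odd dimension has one `q`-th of its vectors isotropic. -/
theorem card_zero_odd {W : Type*} [AddCommGroup W] [Module F W] [FiniteDimensional F W] [Fintype W]
    (h2 : (2 : F) ≠ 0) {B : LinearMap.BilinForm F W} (hB : ∀ x y, B x y = B y x)
    (hn : ∀ x, (∀ y, B x y = 0) → x = 0) (hodd : Odd (finrank F W)) [DecidableEq F] :
    Fintype.card F * (Finset.univ.filter fun x : W => B x x = 0).card = Fintype.card W := by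
  classical
  haveI : Invertible (2 : F) := invertibleOfNonzero h2
  obtain ⟨v, hv⟩ := LinearMap.BilinForm.exists_orthogonal_basis ⟨hB⟩
  obtain ⟨j, hj⟩ := hodd
  have hchar : ringChar F ≠ 2 := fun e => h2 (by haveI := ringChar.of_eq e; exact CharTwo.two_eq_zero)
  obtain ⟨ε, hε⟩ := FiniteField.exists_nonsquare hchar
  let e : Unit ⊕ (Fin j ⊕ Fin j) ≃ Fin (finrank F W) := Fintype.equivOfCardEq (by simp; omega)
  let v' := v.reindex e.symm
  have hne : ∀ i, B (v i) (v i) ≠ 0 := fun i e0 => v.ne_zero i (hn _ fun y => by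
    have h1 : B (v i) = 0 := v.ext fun k => by
      rcases eq_or_ne i k with rfl | hik
      · exact e0
      · exact hv hik
    rw [h1]; rfl)
  let σ : F × (Fin j → F × F) ≃ W :=
    { toFun := fun x => v'.equivFun.symm (Sum.elim (fun _ => x.1) (Sum.elim (fun i => (x.2 i).1) fun i => (x.2 i).2))
      invFun := fun y => (v'.equivFun y (Sum.inl ()), fun i => (v'.equivFun y (Sum.inr (Sum.inl i)),
        v'.equivFun y (Sum.inr (Sum.inr i))))
      left_inv := fun x => by simp only [LinearEquiv.apply_symm_apply]; rfl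
      right_inv := fun y => by
        refine v'.equivFun.injective ?_
        rw [LinearEquiv.apply_symm_apply]
        ext (⟨⟩ | i | i) <;> rfl }
  rw [← Fintype.card_congr σ, ← card_zero_diag (j := j) h2 hε (hne (e (Sum.inl ())))
    (w := fun i => B (v (e (Sum.inr (Sum.inl i)))) (v (e (Sum.inr (Sum.inl i)))))
    (w' := fun i => B (v (e (Sum.inr (Sum.inr i)))) (v (e (Sum.inr (Sum.inr i)))))
    (fun i => hne _) (fun i => hne _)]
  congr 1
  refine (Finset.card_equiv σ fun x => ?_).symm
  simp only [Finset.mem_filter, Finset.mem_univ, true_and]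
  set c := Sum.elim (fun _ : Unit => x.1) (Sum.elim (fun i => (x.2 i).1) fun i => (x.2 i).2) with hc
  have key : B (σ x) (σ x) = ∑ k, c k * c k * B (v (e k)) (v (e k)) := by
    show B (v'.equivFun.symm c) (v'.equivFun.symm c) = _
    simp only [Basis.equivFun_symm_apply, map_sum, map_smul, LinearMap.sum_apply, LinearMap.smul_apply,
      smul_eq_mul, v', Basis.reindex_apply, Equiv.symm_symm]
    refine Finset.sum_congr rfl fun k _ => ?_
    rw [Finset.sum_eq_single k (fun l _ hl => by rw [hv (fun e0 => hl (e.injective e0))]; ring)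
      (by simp)]
    ring
  rw [key, Fintype.sum_sum_type, Fintype.sum_sum_type, Finset.sum_add_distrib]
  simp only [hc, Sum.elim_inl, Sum.elim_inr, Finset.univ_unique, Finset.sum_singleton, mul_comm _ (B _ _)]

/-- A non-degenerate form has many anisotropic vectors. -/
theorem card_aniso {W : Type*} [AddCommGroup W] [Module F W] [Fintype W] (h2 : (2 : F) ≠ 0)
    {B : LinearMap.BilinForm F W} (hB : ∀ x y, B x y = B y x) (hn : ∀ x, (∀ y, B x y = 0) → x = 0)
    [Nontrivial W] [DecidableEq F] :
    (Finset.univ.filter fun x : W => B x x = 0).card * (Fintype.card F - 2) ≤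
      (Finset.univ.filter fun x : W => ¬ B x x = 0).card * (Fintype.card F - 1) := by
  classical
  obtain ⟨v, hv⟩ : ∃ v, B v v ≠ 0 := by
    by_contra hno
    push Not at hno
    obtain ⟨x, hx⟩ := exists_ne (0 : W)
    refine hx (hn x fun y => ?_)
    have h1 := hno (x + y)
    simp only [map_add, LinearMap.add_apply, hno x, hno y, hB y x, zero_add, add_zero, ← two_mul] at h1
    exact (mul_eq_zero.1 h1).resolve_left h2
  have hv0 : v ≠ 0 := fun e => hv (by simp [e])
  refine Finset.card_mul_le_card_mul (fun x y => ∃ t : F, t ≠ 0 ∧ y = x + t • v) (fun x hx => ?_) fun y _ => ?_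
  · have hxx := (Finset.mem_filter.1 hx).2
    set S := ((Finset.univ : Finset F).erase 0).erase (-(2 * B x v / B v v)) with hS
    have hSc : Fintype.card F - 2 ≤ S.card := by
      have h1 := Finset.pred_card_le_card_erase (a := -(2 * B x v / B v v)) (s := (Finset.univ : Finset F).erase 0)
      rw [Finset.card_erase_of_mem (Finset.mem_univ _), Finset.card_univ] at h1
      rw [hS]; omega
    refine hSc.trans (Finset.card_le_card_of_injOn (fun t : F => x + t • v) (fun t ht => ?_) fun t _ t' _ e => ?_)
    · obtain ⟨ht1, ht2⟩ := Finset.mem_erase.1 ht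
      have ht0 := (Finset.mem_erase.1 ht2).1
      refine Finset.mem_filter.2 ⟨Finset.mem_filter.2 ⟨Finset.mem_univ _, fun e => ht1 ?_⟩, t, ht0, rfl⟩
      simp only [map_add, map_smul, LinearMap.add_apply, LinearMap.smul_apply, smul_eq_mul, hxx, hB v x] at e
      have e' : t * (2 * B x v + t * B v v) = 0 := by linear_combination e
      have := (mul_eq_zero.1 e').resolve_left ht0
      field_simp
      linear_combination this
    · exact smul_left_injective F hv0 (add_left_cancel e)
  · rw [show Fintype.card F - 1 = ((Finset.univ : Finset F).erase 0).card by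
      rw [Finset.card_erase_of_mem (Finset.mem_univ _), Finset.card_univ]]
    refine (Finset.card_le_card (t := ((Finset.univ : Finset F).erase 0).image fun t => y - t • v) fun x hx => ?_).trans
      Finset.card_image_le
    obtain ⟨-, t, ht, rfl⟩ := Finset.mem_filter.1 hx
    exact Finset.mem_image.2 ⟨t, Finset.mem_erase.2 ⟨ht, Finset.mem_univ _⟩, add_sub_cancel_right _ _⟩

end CfsgLib.Classical.FieldExtOrth3
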