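import Cfsg.Agent.Lib.Classical.FieldExtOrth3.Move
import Cfsg.Agent.Lib.Classical.FieldExtOrth3.Count

/-!
# An image meeting a singular line and orthogonal to a further vector
-/

set_option autoImplicit false
set_option linter.unusedSectionVars false

namespace CfsgLib.Classical.FieldExtOrth3

open Module QuadraticMap CfsgLib.Orth CfsgLib.Classical CfsgLib.Classical.FieldExtMax

variable {F K V : Type*} [Field F] [Field K] [Algebra F K] [AddCommGroup V] [Module F V] [Module K V]
  [IsScalarTower F K V] [FiniteDimensional F K] [FiniteDimensional K V] [FiniteDimensional F V]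
  {Q : QuadraticForm F V} {φ : V →ₗ[K] V →ₗ[K] K} {f : K →ₗ[F] F} {M : Subgroup (orthGroup Q)}

/-- An image through the vector `a` with a further vector orthogonal to the line of `a`. -/
structure Adj (φ : V →ₗ[K] V →ₗ[K] K) (M : Subgroup (orthGroup Q)) (B : Frame φ) (P : Submodule F V)
    (y : V) : Prop where
  img : Img φ M P
  a_mem : B.a ∈ P
  y_mem : y ∈ P
  perp : φ B.a y = 0
  y_not : y ∉ line F K B.a

variable (h : Set3 Q φ f M)
include h

theorem Set3.counting_false [Fintype F] [Fintype K] {d : ℕ} (hd : Odd d) (hdr : d < finrank F K)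
    (Lam : K → Submodule F K) {δ : K} (hδ : δ ≠ 0) (hl : ∀ μ, d ≤ finrank F (Lam μ))
    (hinc : ∀ k : K, k ≠ 0 → Nat.card {μ : K // k ∈ Lam μ} = Nat.card F ^ d)
    (hnd : ∀ μ, ∀ k ∈ Lam μ, k ≠ 0 → ∃ k' ∈ Lam μ, f (δ * k * k') ≠ 0) : False := by
  classical
  have h2 := h.two
  set q := Fintype.card F with hq
  have hqF : Nat.card F = q := Nat.card_eq_fintype_card
  let BK : LinearMap.BilinForm F K := LinearMap.mk₂ F (fun x y => f (δ * x * y))
    (fun x x' y => by simp [mul_add, add_mul]) (fun c x y => by simp)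
    (fun x y y' => by simp [mul_add]) (fun c x y => by simp)
  have hBK : ∀ x y, BK x y = f (δ * x * y) := fun x y => rfl
  have hsym : ∀ x y, BK x y = BK y x := fun x y => by rw [hBK, hBK, mul_right_comm]
  have hnK : ∀ x, (∀ y, BK x y = 0) → x = 0 := fun x hx => by
    have h0 := h.eq_zero_of_pairing (l := δ * x) fun k => by rw [mul_comm]; exact hx k
    exact (mul_eq_zero.1 h0).resolve_left hδ
  set Bμ := fun μ => BK.compl₁₂ (Lam μ).subtype (Lam μ).subtype
  have hBμ : ∀ μ (x y : Lam μ), Bμ μ x y = f (δ * x * y) := fun μ x y => rfl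
  have hnμ : ∀ μ (x : Lam μ), (∀ y, Bμ μ x y = 0) → x = 0 := fun μ x hx => by
    by_contra hne
    obtain ⟨k', hk', hk⟩ := hnd μ x x.2 fun e => hne (Subtype.ext e)
    exact hk (hx ⟨k', hk'⟩)
  have hodd3 : 3 ≤ q := by
    have h1 : 2 ≤ q := Fintype.one_lt_card
    have h3 : q ≠ 2 := fun e => by
      have h4 : ((Fintype.card F : ℕ) : F) = 0 := Nat.cast_card_eq_zero F
      rw [← hq, e] at h4
      exact h2 (by exact_mod_cast h4)
    omega
  obtain ⟨j, hj⟩ := hd
  set Iso := fun μ => (Finset.univ.filter fun k : K => k ∈ Lam μ ∧ f (δ * k * k) = 0).card with hIso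
  set Siz := fun μ => (Finset.univ.filter fun k : K => k ∈ Lam μ).card with hSiz
  have hsizeq : ∀ μ, Siz μ = q ^ finrank F (Lam μ) := fun μ => by
    simp only [hSiz]
    rw [← Fintype.card_subtype, ← Nat.card_eq_fintype_card, ← hqF]
    exact Module.natCard_eq_pow_finrank
  have hisoeq : ∀ μ, Iso μ = (Finset.univ.filter fun k : Lam μ => Bμ μ k k = 0).card := fun μ => by
    simp only [hIso]
    refine (Finset.card_bij (fun (k : Lam μ) _ => (k : K)) (fun k hk => ?_) (by intro a _ b _ e; exact Subtype.ext e)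
      fun k hk => ?_).symm
    · exact Finset.mem_filter.2 ⟨Finset.mem_univ _, k.2, (Finset.mem_filter.1 hk).2⟩
    · obtain ⟨-, hk1, hk2⟩ := Finset.mem_filter.1 hk
      exact ⟨⟨k, hk1⟩, Finset.mem_filter.2 ⟨Finset.mem_univ _, hk2⟩, rfl⟩
  -- the local inequality
  have hloc : ∀ μ, q * Iso μ + (q - 1) * q ^ d ≤ q * Siz μ ∧
      (d < finrank F (Lam μ) → q * Iso μ + (q - 1) * q ^ d < q * Siz μ) := by
    intro μ
    rcases (hl μ).eq_or_lt with e | hlt
    · refine ⟨le_of_eq ?_, fun h' => absurd e (ne_of_lt h')⟩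
      have h1 := card_zero_odd h2 (B := Bμ μ) (fun x y => hsym _ _) (hnμ μ) (by rw [← e]; exact ⟨j, hj⟩)
      rw [← hisoeq, ← Fintype.card_congr (Equiv.refl (Lam μ)), ← Nat.card_eq_fintype_card (α := Lam μ),
        Module.natCard_eq_pow_finrank (K := F) (V := Lam μ), hqF, ← hq, ← e] at h1
      rw [hsizeq, ← e, h1]
      obtain ⟨q', hq'⟩ : ∃ q', q = q' + 1 := ⟨q - 1, by omega⟩
      rw [hq', Nat.add_sub_cancel]
      ring
    · haveI : Nontrivial (Lam μ) := Module.nontrivial_of_finrank_pos (R := F) (by omega)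
      have h1 := card_aniso h2 (B := Bμ μ) (fun x y => hsym _ _) (hnμ μ)
      have h3 := Finset.card_filter_add_card_filter_not (s := (Finset.univ : Finset (Lam μ)))
        fun k => Bμ μ k k = 0
      rw [Finset.card_univ, ← Nat.card_eq_fintype_card, Module.natCard_eq_pow_finrank (K := F), hqF] at h3
      rw [← hisoeq] at h1 h3
      set A := (Finset.univ.filter fun k : Lam μ => ¬ Bμ μ k k = 0).card
      obtain ⟨q', hq'⟩ : ∃ q', q = q' + 2 := ⟨q - 2, by omega⟩
      have h4 : q * q ^ d ≤ q ^ finrank F (Lam μ) := by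
        rw [← pow_succ']; exact Nat.pow_le_pow_right (by omega) hlt
      have hlt' : q * Iso μ + (q - 1) * q ^ d < q * Siz μ := by
        rw [hsizeq, ← h3, mul_add]
        refine Nat.add_lt_add_left ?_ _
        rw [← hq, hq', Nat.add_sub_cancel, show q' + 2 - 1 = q' + 1 by omega] at h1
        rw [← h3, hq'] at h4
        rw [hq', show q' + 2 - 1 = q' + 1 by omega]
        have h5 : 1 ≤ (q' + 2) ^ d := Nat.one_le_pow _ _ (by omega)
        have h6 : (q' + 2) * (q' + 2) ^ d * q' ≤ A * (2 * q' + 1) := by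
          calc _ ≤ (Iso μ + A) * q' := Nat.mul_le_mul_right _ h4
            _ = Iso μ * q' + A * q' := by ring
            _ ≤ A * (q' + 1) + A * q' := by omega
            _ = _ := by ring
        refine Nat.lt_of_mul_lt_mul_right (a := 2 * q' + 1) ?_
        calc (q' + 1) * (q' + 2) ^ d * (2 * q' + 1) = (q' + 1) * (2 * q' + 1) * (q' + 2) ^ d := by ring
          _ < (q' + 2) * (q' + 2) * q' * (q' + 2) ^ d :=
              Nat.mul_lt_mul_of_pos_right (by
                have h7 : 1 ≤ q' := by omega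
                nlinarith [Nat.mul_le_mul h7 h7]) (by omega)
          _ = (q' + 2) * ((q' + 2) * (q' + 2) ^ d * q') := by ring
          _ ≤ (q' + 2) * (A * (2 * q' + 1)) := Nat.mul_le_mul_left _ h6
          _ = _ := by ring
      exact ⟨hlt'.le, fun _ => hlt'⟩
  -- the global identities
  have hswap : ∀ p : K → Prop, ∑ μ : K, (Finset.univ.filter fun k : K => k ∈ Lam μ ∧ p k).card =
      ∑ k ∈ Finset.univ.filter p, (Finset.univ.filter fun μ : K => k ∈ Lam μ).card := fun p => by
    simp only [Finset.card_filter]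
    rw [Finset.sum_comm, Finset.sum_filter]
    refine Finset.sum_congr rfl fun k _ => ?_
    by_cases hp : p k <;> simp [hp]
  have hfib : ∀ k : K, (Finset.univ.filter fun μ : K => k ∈ Lam μ).card =
      if k = 0 then Fintype.card K else q ^ d := by
    intro k
    split_ifs with hk
    · subst hk; simp
    · rw [← Fintype.card_subtype, ← Nat.card_eq_fintype_card, hinc k hk, hqF]
  have hsum : ∀ p : K → Prop, p 0 → ∑ μ : K, (Finset.univ.filter fun k : K => k ∈ Lam μ ∧ p k).card + q ^ d =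
      Fintype.card K + (Finset.univ.filter p).card * q ^ d := by
    intro p hp
    rw [hswap, Finset.sum_congr rfl fun k _ => hfib k,
      ← Finset.add_sum_erase _ _ (show (0 : K) ∈ Finset.univ.filter p by simp [hp]), if_pos rfl,
      Finset.sum_congr rfl fun k hk => if_neg (Finset.mem_erase.1 hk).1, Finset.sum_const, smul_eq_mul,
      ← Finset.card_erase_add_one (show (0 : K) ∈ Finset.univ.filter p by simp [hp])]
    ring
  have e1 := hsum (fun k => f (δ * k * k) = 0) (by simp)
  have e2 : ∑ μ : K, Siz μ + q ^ d = Fintype.card K + Fintype.card K * q ^ d := by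
    have h1 := hsum (fun _ => True) trivial
    simpa [hSiz, Finset.card_univ] using h1
  set Z := (Finset.univ.filter fun k : K => f (δ * k * k) = 0).card with hZ
  have hZq : q * Z = Fintype.card K := by
    have h1 := card_zero_odd h2 (B := BK) hsym hnK (h.prime.odd_of_ne_two (by have := h.three; omega))
    exact h1
  have heq : ∑ μ : K, (q * Iso μ + (q - 1) * q ^ d) = ∑ μ : K, q * Siz μ := by
    rw [Finset.sum_add_distrib, ← Finset.mul_sum, ← Finset.mul_sum, ← Finset.mul_sum, Finset.sum_const, Finset.card_univ, smul_eq_mul]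
    obtain ⟨q', hq'⟩ : ∃ q', q = q' + 1 := ⟨q - 1, by omega⟩
    rw [hq'] at e1 e2 hZq ⊢
    rw [Nat.add_sub_cancel]
    change ∑ μ : K, Iso μ + (q' + 1) ^ d = _ at e1
    rw [show q' * (Fintype.card K * (q' + 1) ^ d) = Fintype.card K * (q' * (q' + 1) ^ d) by ring]
    apply Nat.add_right_cancel (m := (q' + 1) * (q' + 1) ^ d)
    calc (q' + 1) * ∑ μ : K, Iso μ + Fintype.card K * (q' * (q' + 1) ^ d) + (q' + 1) * (q' + 1) ^ d
        = (q' + 1) * (∑ μ : K, Iso μ + (q' + 1) ^ d) + Fintype.card K * (q' * (q' + 1) ^ d) := by ring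
      _ = (q' + 1) * Fintype.card K + ((q' + 1) * Z) * (q' + 1) ^ d + Fintype.card K * (q' * (q' + 1) ^ d) := by
          rw [e1]; ring
      _ = (q' + 1) * (Fintype.card K + Fintype.card K * (q' + 1) ^ d) := by rw [hZq]; ring
      _ = (q' + 1) * ∑ μ : K, Siz μ + (q' + 1) * (q' + 1) ^ d := by rw [← e2]; ring
  obtain ⟨μ, hμ⟩ : ∃ μ, d < finrank F (Lam μ) := by
    by_contra hno
    push Not at hno
    have h1 : ∀ μ, Siz μ = q ^ d := fun μ => by rw [hsizeq, le_antisymm (hno μ) (hl μ)]
    simp only [h1, Finset.sum_const, Finset.card_univ, smul_eq_mul] at e2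
    have h3 : q ^ d < Fintype.card K := by
      rw [Module.card_eq_pow_finrank (K := F) (V := K), ← hq]
      exact Nat.pow_lt_pow_right (by omega) hdr
    omega
  exact absurd heq (ne_of_lt (Finset.sum_lt_sum (fun μ _ => (hloc μ).1) ⟨μ, Finset.mem_univ _, (hloc μ).2 hμ⟩))

/-- The vectors of an image orthogonal to the first vector of a frame lie on the line, unless adjacent. -/
theorem Set3.exists_adj [Finite F] {g : orthGroup Q} (hg : g ∈ M)
    (hne : ∃ x, ∃ k : K, g.1 (k • x) ∉ line F K (g.1 x)) :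
    ∃ (B : Frame φ) (P : Submodule F V) (y : V), Adj φ M B P y := by
  classical
  obtain ⟨a₀, P, ha₀0, ha₀, hP, hPl, hodd⟩ := h.exists_odd hg hne
  obtain ⟨a, haI, ha0⟩ := Submodule.exists_mem_ne_zero_of_ne_bot (p := P ⊓ line F K a₀) fun e => by
    rw [e, finrank_bot] at hodd; exact Nat.not_odd_zero hodd
  have haa : φ a a = 0 := by
    obtain ⟨k, rfl⟩ := mem_line.1 haI.2
    simp [ha₀]
  obtain ⟨B, rfl⟩ := h.exists_frame haa ha0
  rw [← line_eq_of_mem haI.2 ha0] at hPl hodd
  by_cases hA : ∃ y ∈ P, φ B.a y = 0 ∧ y ∉ line F K B.a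
  · obtain ⟨y, hy, h1, h3⟩ := hA
    exact ⟨B, P, y, hP, haI.1, hy, h1, h3⟩
  push Not at hA
  haveI : Fintype F := Fintype.ofFinite F
  haveI : Finite K := Module.finite_of_finite F
  haveI : Fintype K := Fintype.ofFinite K
  set D := P ⊓ line F K B.a with hD
  have hcc := B.cc
  set δ := φ B.c B.c
  let αP : P →ₗ[F] K := (φ B.a).restrictScalars F ∘ₗ P.subtype
  let κP : P →ₗ[F] K := (φ B.c).restrictScalars F ∘ₗ P.subtype
  have hker : ∀ x : P, αP x = 0 ↔ (x : V) ∈ line F K B.a := fun x =>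
    ⟨fun e => hA x x.2 e, fun e => ((h.mem_line_iff B).1 e).1⟩
  have hkerD : finrank F (LinearMap.ker αP) = finrank F D := by
    have e : (LinearMap.ker αP).map P.subtype = D := by
      ext x
      constructor
      · rintro ⟨x, hx, rfl⟩
        exact ⟨x.2, (hker x).1 hx⟩
      · rintro ⟨hx, hxl⟩
        exact ⟨⟨x, hx⟩, (hker ⟨x, hx⟩).2 hxl, rfl⟩
    rw [← e]
    exact LinearEquiv.finrank_eq (Submodule.equivMapOfInjective _ P.injective_subtype _)
  have hrange : finrank F (LinearMap.range αP) + finrank F D = finrank F K := by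
    rw [← hP.finrank_eq, ← hkerD]; exact αP.finrank_range_add_finrank_ker
  -- the functionals of `μ`
  let T : K → (P →ₗ[F] K) := fun μ => LinearMap.mulLeft F μ ∘ₗ αP + κP
  have hT : ∀ μ x, T μ x = μ * φ B.a x + φ B.c x := fun μ x => rfl
  let L : K → Submodule F K := fun μ =>
    { carrier := {k | ∀ x : P, f (k * T μ x) = 0}
      add_mem' := fun {k k'} hk hk' x => by rw [add_mul, map_add, hk x, hk' x, add_zero]
      zero_mem' := fun x => by simp
      smul_mem' := fun c k hk x => by rw [smul_mul_assoc, map_smul, hk x, smul_zero] }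
  have hL : ∀ μ k, k ∈ L μ ↔ ∀ x : P, f (k * T μ x) = 0 := fun μ k => Iff.rfl
  have hlow : ∀ μ, finrank F D ≤ finrank F (L μ) := by
    intro μ
    let Φ : K →ₗ[F] Module.Dual F (LinearMap.range (T μ)) :=
      ((LinearMap.mul F K).compr₂ f).compl₂ (LinearMap.range (T μ)).subtype
    have hΦ : LinearMap.ker Φ ≤ L μ := fun k hk x =>
      LinearMap.congr_fun (LinearMap.mem_ker.1 hk) ⟨T μ x, x, rfl⟩
    have h1 := Φ.finrank_range_add_finrank_ker
    have h3 : finrank F (LinearMap.range Φ) ≤ finrank F (LinearMap.range (T μ)) := by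
      refine (Submodule.finrank_le _).trans ?_
      rw [Subspace.dual_finrank_eq]
    have h4 := (T μ).finrank_range_add_finrank_ker
    have h5 : finrank F D ≤ finrank F (LinearMap.ker (T μ)) := by
      rw [← hkerD]
      refine Submodule.finrank_mono fun x hx => ?_
      have h6 := (h.mem_line_iff B).1 ((hker x).1 hx)
      rw [LinearMap.mem_ker, hT, h6.1, h6.2, mul_zero, add_zero]
    have h7 := Submodule.finrank_mono hΦ
    rw [hP.finrank_eq] at h4
    omega
  have hinc : ∀ k : K, k ≠ 0 → Nat.card {μ : K // k ∈ L μ} = Nat.card F ^ finrank F D := by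
    intro k hk
    let J : K →ₗ[F] Module.Dual F K := (LinearMap.mul F K).compr₂ f ∘ₗ LinearMap.mulLeft F k
    have hJ : ∀ μ z, J μ z = f (k * μ * z) := fun μ z => rfl
    have hJi : Function.Injective J := (injective_iff_map_eq_zero J).2 fun μ hμ => by
      have h0 := h.eq_zero_of_pairing (l := k * μ) fun z => by
        rw [mul_comm, ← hJ]; exact LinearMap.congr_fun hμ z
      exact (mul_eq_zero.1 h0).resolve_left hk
    have hJs : Function.Surjective J :=
      (LinearMap.injective_iff_surjective_of_finrank_eq_finrank Subspace.dual_finrank_eq.symm).1 hJi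
    let Ψ : K →ₗ[F] Module.Dual F P := αP.dualMap ∘ₗ J
    let ψ : Module.Dual F P := -(f ∘ₗ LinearMap.mulLeft F k ∘ₗ κP)
    have hiff : ∀ μ, k ∈ L μ ↔ Ψ μ = ψ := by
      intro μ
      rw [hL, LinearMap.ext_iff]
      refine forall_congr' fun x => ?_
      show f (k * (μ * φ B.a x + φ B.c x)) = 0 ↔ f (k * μ * φ B.a x) = -f (k * φ B.c x)
      rw [mul_add, map_add, mul_assoc, ← eq_neg_iff_add_eq_zero]
    obtain ⟨χ, hχ⟩ : ψ ∈ LinearMap.range αP.dualMap := by
      rw [LinearMap.range_dualMap_eq_dualAnnihilator_ker, Submodule.mem_dualAnnihilator]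
      intro x hx
      show -f (k * φ B.c x) = 0
      rw [((h.mem_line_iff B).1 ((hker x).1 hx)).2, mul_zero, map_zero, neg_zero]
    obtain ⟨μ₀, rfl⟩ := hJs χ
    have e : {μ : K // k ∈ L μ} ≃ LinearMap.ker Ψ :=
      { toFun := fun μ => ⟨μ.1 - μ₀, by
          rw [LinearMap.mem_ker, map_sub, (hiff _).1 μ.2, ← hχ]; exact sub_self _⟩
        invFun := fun z => ⟨μ₀ + z.1, (hiff _).2 (by
          rw [map_add, LinearMap.mem_ker.1 z.2, add_zero, ← hχ]; rfl)⟩
        left_inv := fun μ => Subtype.ext (add_sub_cancel _ _)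
        right_inv := fun z => Subtype.ext (add_sub_cancel_left _ _) }
    rw [Nat.card_congr e, Module.natCard_eq_pow_finrank (K := F)]
    congr 1
    have h1 : LinearMap.range Ψ = LinearMap.range αP.dualMap :=
      LinearMap.range_comp_of_range_eq_top _ (LinearMap.range_eq_top.2 hJs)
    have h3 := Ψ.finrank_range_add_finrank_ker
    rw [h1, LinearMap.finrank_range_dualMap_eq_finrank_range] at h3
    omega
  have hDlt : finrank F D < finrank F K := by
    rw [← hP.finrank_eq]
    refine Submodule.finrank_lt_finrank_of_lt (lt_of_le_of_ne inf_le_left fun e => hPl ?_)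
    exact Submodule.eq_of_le_of_finrank_le (e.ge.trans inf_le_right) (by rw [hP.finrank_eq, finrank_line ha0])
  obtain ⟨μ, k, hk, hk0, hkr⟩ : ∃ μ, ∃ k ∈ L μ, k ≠ 0 ∧ ∀ k' ∈ L μ, f (δ * k * k') = 0 := by
    by_contra hno
    push Not at hno
    exact h.counting_false hodd hDlt L hcc hlow hinc hno
  -- the vector of `P`
  have h2K := h.twoK
  obtain ⟨x, hx⟩ : -(δ * k) / 2 ∈ LinearMap.range (T μ) := by
    by_contra hno
    obtain ⟨e, he, he1⟩ := h.exists_scalar_perp hno
    have h1 := hkr e (fun x => he _ ⟨x, rfl⟩)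
    rw [show δ * k * e = (-2 : F) • (e * (-(δ * k) / 2)) by
      rw [Algebra.smul_def, map_neg, map_ofNat]; field_simp, map_smul, he1, smul_eq_mul, mul_one,
      neg_eq_zero] at h1
    exact h.two h1
  rw [hT] at hx
  set α := φ B.a (x : V) with hα
  have hα0 : α ≠ 0 := fun e0 => by
    have h1 := ((h.mem_line_iff B).1 (hA x x.2 e0)).2
    rw [e0, mul_zero, zero_add, h1, eq_comm, div_eq_zero_iff, neg_eq_zero, mul_eq_zero] at hx
    exact (hx.resolve_right h2K).elim hcc hk0
  set t := k / α with ht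
  set z := (h.root B t).1 (x : V) with hz
  have hzx : z = (x : V) + k • (μ • B.a + B.c) := by
    rw [hz, h.root_apply, ← hα]
    have e1 : φ B.c (x : V) = -(δ * k) / 2 - μ * α := by linear_combination hx
    rw [e1, ht]
    match_scalars <;> field_simp <;> ring
  have hzperp : ∀ p ∈ P, polar Q z p = 0 := fun p hp => by
    rw [hzx, polar_add_left, h.polar_eq_zero hP x.2 hp, zero_add, h.polar_smul_left]
    simpa [hT] using (hL μ k).1 hk ⟨p, hp⟩
  have hzP : z ∉ P := fun hmem => by
    have h1 : k • (μ • B.a + B.c) ∈ P := by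
      have := P.sub_mem hmem x.2
      rwa [hzx, add_sub_cancel_left] at this
    have h3 := ((h.mem_line_iff B).1 (hA _ h1 (by simp [B.aa, B.ac]))).2
    simp [h.symm B.c B.a, B.ac, hk0] at h3
    exact hcc h3
  obtain ⟨g₀, hg₀, a₁, ha₁0, ha₁, hPg⟩ := id hP
  set g' := g₀⁻¹ with hg'
  set a' := g'.1 B.a with ha'
  have hsymm : ∀ v, g₀.1 (g'.1 v) = v := fun v => inv_apply g₀ v
  have ha'l : a' ∈ line F K a₁ := by
    obtain ⟨w, hw, hw'⟩ := hPg.le haI.1
    rwa [show a' = w from g₀.1.injective ((hsymm _).trans hw'.symm)]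
  have ha'0 : a' ≠ 0 := fun e => ha0 (by rw [← hsymm B.a, ← ha', e, map_zero])
  have ha'a : φ a' a' = 0 := by
    obtain ⟨l, hl⟩ := mem_line.1 ha'l
    simp [← hl, ha₁]
  obtain ⟨B', hB'⟩ := h.exists_frame ha'a ha'0
  have hB'a : B'.a = g'.1 B.a := hB'.trans ha'
  refine ⟨B', (P.map (h.root B t).1.toLinearMap).map g'.1.toLinearMap, g'.1 z,
    Img.map (Img.map hP (h.root_mem B t)) (inv_mem hg₀), ?_, ⟨z, ⟨x, x.2, rfl⟩, rfl⟩, ?_, ?_⟩
  · refine ⟨B.a, ⟨B.a, haI.1, ?_⟩, hB'a.symm⟩
    simpa using h.root_fix B t 1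
  · rw [h.symm]
    refine h.phi_eq_zero fun l => ?_
    rw [hB'a, ← polar_isom g₀, hsymm]
    refine hzperp _ (hPg.ge ⟨_, ?_, rfl⟩)
    rw [← line_eq_of_mem ha'l ha'0]
    exact smul_mem_line a' l
  · rw [hB'a, ← ha', line_eq_of_mem ha'l ha'0]
    intro hmem
    refine hzP (hPg.ge ⟨_, hmem, ?_⟩)
    exact hsymm z

end CfsgLib.Classical.FieldExtOrth3
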