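import Cfsg.Agent.Lib.Classical.FieldExtOrth3.Root

/-!
# An overgroup contains every Siegel element
-/

set_option autoImplicit false
set_option linter.unusedSectionVars false

namespace CfsgLib.Classical.FieldExtOrth3

open Module QuadraticMap CfsgLib.Orth CfsgLib.Classical CfsgLib.Classical.FieldExtMax

variable {F K V : Type*} [Field F] [Field K] [Algebra F K] [AddCommGroup V] [Module F V] [Module K V]
  [IsScalarTower F K V] [FiniteDimensional F K] [FiniteDimensional K V] [FiniteDimensional F V]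
  {Q : QuadraticForm F V} {φ : V →ₗ[K] V →ₗ[K] K} {f : K →ₗ[F] F} {M : Subgroup (orthGroup Q)}

variable (h : Set3 Q φ f M)
include h

/-- The square of a dilation of the hyperbolic pair. -/
theorem Set3.exists_torus (B : Frame φ) {l : K} (hl : l ≠ 0) :
    ∃ e ∈ M, (∀ (k : K) x, e.1 (k • x) = k • e.1 x) ∧ e.1 B.a = (l * l) • B.a := by
  have hcc := B.cc
  have hba : φ B.b B.a = 1 := by rw [h.symm, B.ab]
  have hca : φ B.c B.a = 0 := by rw [h.symm, B.ac]
  let L : V →ₗ[K] V := (l • φ B.b).smulRight B.a + ((φ B.c B.c)⁻¹ • φ B.c).smulRight B.c +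
    (l⁻¹ • φ B.a).smulRight B.b
  have hL : ∀ x, L x = (l * φ B.b x) • B.a + (φ B.c x / φ B.c B.c) • B.c + (l⁻¹ * φ B.a x) • B.b := fun x => by
    simp [L, div_eq_inv_mul]
  have hiso : ∀ x x', φ (L x) (L x') = φ x x' := by
    intro x x'
    conv_rhs => rw [h.decomp B x, h.decomp B x']
    rw [hL, hL]
    simp [B.aa, B.bb, B.ab, B.ac, B.bc, hba, hca, h.symm B.c B.b]
    field_simp
  have hinj : Function.Injective L := (injective_iff_map_eq_zero L).2 fun p hp =>
    h.nondeg p fun p' => by rw [← hiso, hp]; simp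
  let s : V ≃ₗ[K] V := LinearEquiv.ofInjectiveEndo L hinj
  have hs : ∀ p, s p = L p := fun p => LinearEquiv.coe_ofInjectiveEndo L hinj ▸ rfl
  obtain ⟨e, he, hes⟩ := h.sq s fun p p' => by rw [hs, hs, hiso]
  refine ⟨e, he, fun k x => by rw [hes, hes, map_smul, map_smul], ?_⟩
  have hsa : s B.a = l • B.a := by rw [hs, hL]; simp [hba, hca, B.aa]
  rw [hes, hsa, map_smul, hsa, smul_smul]

/-- The scalar multiples of `(-δ/2) e • b` in the orbit of `a`. -/
theorem Set3.exists_move (B : Frame φ) {e : K} (he : e ≠ 0) (hsq : IsSquare (e / (-φ B.c B.c / 2))) :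
    ∃ m ∈ M, (∀ (k : K) x, m.1 (k • x) = k • m.1 x) ∧ m.1 B.a = e • B.b := by
  have hcc := B.cc
  have h2 := h.twoK
  have hba : φ B.b B.a = 1 := by rw [h.symm, B.ab]
  have hca : φ B.c B.a = 0 := by rw [h.symm, B.ac]
  set ζ := -φ B.c B.c / 2 with hζ
  have hζ0 : ζ ≠ 0 := div_ne_zero (neg_ne_zero.2 hcc) h2
  obtain ⟨l, hl⟩ := hsq
  have hl0 : l ≠ 0 := fun e0 => by
    rw [e0, mul_zero, div_eq_zero_iff] at hl
    exact hl.elim he hζ0
  let Bs : Frame φ := ⟨B.b, B.a, B.c, B.bb, B.aa, hba, B.bc, B.ac, hcc⟩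
  obtain ⟨T, hT, hTk, hTa⟩ := h.exists_torus B hl0
  refine ⟨h.root B (2 / φ B.c B.c) * h.root Bs 1 * T,
    mul_mem (mul_mem (h.root_mem _ _) (h.root_mem _ _)) hT, fun k x => ?_, ?_⟩
  · show (h.root B _).1 ((h.root Bs 1).1 (T.1 (k • x))) = k • (h.root B _).1 ((h.root Bs 1).1 (T.1 x))
    rw [hTk, h.root_smul, h.root_smul]
  · show (h.root B _).1 ((h.root Bs 1).1 (T.1 B.a)) = _
    rw [hTa, h.root_smul, h.root_smul, h.root_apply Bs, h.root_apply B]
    have e1 : e = l * l * ζ := by rw [← hl, div_mul_cancel₀ _ hζ0]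
    simp only [Bs, map_add, map_smul, hba, hca, B.aa, B.ac, B.ab, B.bc, h.symm B.c B.b, smul_eq_mul, mul_zero,
      mul_one, one_mul, add_zero, zero_add, smul_add, smul_smul, neg_zero, zero_sub]
    rw [e1, hζ]
    match_scalars <;> field_simp <;> ring

/-- All parameters at the line with a root. -/
theorem Set3.axIn_root [Finite F] (B : Frame φ) {c : K} (hcF : ∀ t : F, algebraMap F K t ≠ c)
    (hc : SiegelIn M B.a (c • B.a)) : AxIn M B.a := by
  classical
  haveI : Finite K := Module.finite_of_finite F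
  haveI : Fintype K := Fintype.ofFinite K
  haveI : Fintype F := Fintype.ofFinite F
  obtain ⟨ε, hε0, -, hclass⟩ := h.exists_class
  have hcc := B.cc
  have h2 := h.twoK
  have hba : φ B.b B.a = 1 := by rw [h.symm, B.ab]
  have hca : φ B.c B.a = 0 := by rw [h.symm, B.ac]
  have hQa : Q B.a = 0 := h.quad_zero B.aa
  have hnQ := h.nondegQ
  -- the parameters in `M`
  let In : V → Prop := fun u => polar Q B.a u = 0 ∧ SiegelIn M B.a u
  have hIn0 : In 0 := ⟨polar_zero_right _ _, by
    have := siegelIn_smul_self M hQa (0 : F)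
    rwa [zero_smul] at this⟩
  have hadd : ∀ {u v}, In u → In v → In (u + v) := fun {u v} hu hv =>
    ⟨by rw [polar_add_right, hu.1, hv.1, add_zero], SiegelIn.add hnQ hQa hu.1 hv.1 hu.2 hv.2⟩
  have hneg : ∀ {u}, In u → In (-u) := fun {u} hu => by
    refine ⟨by rw [polar_neg_right, hu.1, neg_zero], fun g hg => ?_⟩
    obtain ⟨g', hg'⟩ := exists_isSiegel hnQ hQa hu.1
    have h1 : IsSiegel (g' * g) B.a (u + -u) := hg'.mul hg
    rw [add_neg_cancel] at h1
    rw [eq_inv_of_mul_eq_one_right (h1.unique (isSiegel_one hQa))]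
    exact inv_mem (hu.2 g' hg')
  have hsub : ∀ {u v}, In u → In v → In (u - v) := fun {u v} hu hv => by
    rw [sub_eq_add_neg]; exact hadd hu (hneg hv)
  have hroot : ∀ t {u}, In u → In ((h.root B t).1 u) := fun t {u} hu => by
    have e : (h.root B t).1 B.a = B.a := by simpa using h.root_fix B t 1
    refine ⟨?_, ?_⟩
    · conv_lhs => rw [← e]
      rw [polar_isom]; exact hu.1
    · have := SiegelIn.conj hu.2 (h.root_mem B t)
      rwa [e] at this
  -- a vector obtained from a root
  have key : ∀ c' e : K, In (c' • B.a) → e ≠ 0 → IsSquare (e / (-φ B.c B.c / 2)) → f e = 0 → f (c' * e) = 0 →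
      In (f (c' * c' * e) • e • B.b) := by
    intro c' e hc' he hsq he0 hce
    obtain ⟨m, hm, hmk, hma⟩ := h.exists_move B he hsq
    set d := e • B.b with hd
    have hdd : φ d d = 0 := by simp [hd, B.bb]
    have hQd := h.quad_zero hdd
    have hQcd : Q (c' • d) = 0 := h.quad_zero (by simp [hdd])
    have hda : φ d B.a = e := by simp [hd, hba]
    have hpd : polar Q d (c' • d) = 0 := by rw [h.polar_smul_right, hdd, mul_zero, map_zero]
    obtain ⟨g, hg⟩ := exists_isSiegel hnQ hQd hpd
    have hgM : g ∈ M := by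
      have h1 := SiegelIn.conj hc'.2 hm
      rw [hma, hmk, hma] at h1
      exact h1 g hg
    have hga : g.1 B.a = B.a := by
      rw [hg.2.2, h.eq d, hda, he0, h.polar_smul_left, hda, hce, hQcd]
      simp
    have hgc : g.1 (c' • B.a) = c' • B.a + (-(f (c' * c' * e))) • d := by
      rw [hg.2.2, h.polar_smul_right, hda, hce, h.eq (c' • d)]
      simp [hda, mul_assoc]
    have h1 : In (g.1 (c' • B.a)) := by
      refine ⟨?_, ?_⟩
      · have e' := polar_isom g B.a (c' • B.a)
        rw [hga] at e'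
        rw [e']; exact hc'.1
      · have := SiegelIn.conj hc'.2 hgM
        rwa [hga] at this
    have h3 := hneg (hsub h1 hc')
    rwa [hgc, add_sub_cancel_left, neg_smul, neg_neg] at h3
  have hclass' : ∀ e : K, e ≠ 0 → ∃ s : F, s ≠ 0 ∧ IsSquare ((s • e) / (-φ B.c B.c / 2)) := fun e he => by
    rcases hclass (e / (-φ B.c B.c / 2)) with h1 | h1
    · exact ⟨1, one_ne_zero, by rwa [one_smul]⟩
    · exact ⟨ε, hε0, by rwa [Algebra.smul_def, mul_div_assoc]⟩
  -- one good scalar gives the line and the perpendicular vectors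
  have hcc' : c * c ∉ Submodule.span F {(1 : K), c} := by
    intro hm
    obtain ⟨s, t, hst⟩ := Submodule.mem_span_pair.1 hm
    obtain ⟨u, hu⟩ := h.quad_mem (x := c) (s := t) (t := s) (by rw [← hst]; abel)
    exact hcF u hu
  obtain ⟨e₀, he₀, he₀c⟩ := h.exists_scalar_perp hcc'
  have he₀1 : f e₀ = 0 := by simpa using he₀ 1 (Submodule.subset_span (by simp))
  have he₀2 : f (c * e₀) = 0 := by rw [mul_comm]; exact he₀ c (Submodule.subset_span (by simp))
  have he₀3 : f (c * c * e₀) = 1 := by rw [mul_comm, he₀c]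
  have he₀0 : e₀ ≠ 0 := fun e => by rw [e, mul_zero, map_zero] at he₀3; exact zero_ne_one he₀3
  obtain ⟨s, hs0, hsq⟩ := hclass' e₀ he₀0
  set e₁ := s • e₀ with he₁
  have hca' : In (c • B.a) := ⟨by rw [h.polar_smul_right, B.aa, mul_zero, map_zero], hc⟩
  have hk1 := key c e₁ hca' (smul_ne_zero hs0 he₀0) hsq (by rw [he₁, map_smul, he₀1, smul_zero])
    (by rw [he₁, mul_smul_comm, map_smul, he₀2, smul_zero])
  set κ := f (c * c * e₁) with hκ
  have hκs : κ = s := by rw [hκ, he₁, mul_smul_comm, map_smul, he₀3, smul_eq_mul, mul_one]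
  rw [← smul_assoc] at hk1
  set E₀ := κ • e₁ with hE₀
  have hE0 : E₀ ≠ 0 := smul_ne_zero (hκs.trans_ne hs0) (smul_ne_zero hs0 he₀0)
  have hE : ∀ t, In ((E₀ * t) • B.c + (-(2⁻¹ * (t * t * φ B.c B.c) * E₀)) • B.a) := fun t => by
    have h1 := hsub (hroot t hk1) hk1
    rw [h.root_apply] at h1
    convert h1 using 1
    simp [B.ab, h.symm B.c B.b, B.bc]
    abel
  have hkc : ∀ k : K, In (k • B.c) := fun k => by
    have h1 := hsub (hE (k / (2 * E₀))) (hE (-(k / (2 * E₀))))
    convert h1 using 1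
    match_scalars <;> field_simp <;> ring
  have hka : ∀ k : K, In (k • B.a) := fun k => by
    have sqr : ∀ t, In ((-(2⁻¹ * (t * t * φ B.c B.c) * E₀)) • B.a) := fun t => by
      have h1 := hsub (hE t) (hkc (E₀ * t))
      rwa [add_sub_cancel_left] at h1
    set w := k / (-(2⁻¹ * φ B.c B.c * E₀)) with hw
    have h1 := hsub (sqr ((w + 1) / 2)) (sqr ((w - 1) / 2))
    rw [← sub_smul] at h1
    convert h1 using 2
    rw [hw]
    field_simp
    ring
  -- every value at the partner
  have hkb : ∀ e : K, f e = 0 → In (e • B.b) := by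
    intro e he
    rcases eq_or_ne e 0 with rfl | he0
    · rw [zero_smul]; exact hIn0
    obtain ⟨s, hs0, hsq⟩ := hclass' e he0
    set e₂ := s • e with he₂
    have he₂0 : e₂ ≠ 0 := smul_ne_zero hs0 he0
    have he₂f : f e₂ = 0 := by rw [he₂, map_smul, he, smul_zero]
    set H := LinearMap.ker (f ∘ₗ LinearMap.mulLeft F e₂) with hH
    let Bq : K → K → F := fun x z => f (e₂ * x * z)
    have hBsymm : ∀ x z, Bq x z = Bq z x := fun x z => by simp only [Bq, mul_right_comm]
    have hHfin : finrank F K ≤ finrank F H + 1 := by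
      have h1 := (f ∘ₗ LinearMap.mulLeft F e₂).finrank_range_add_finrank_ker
      have h3 : finrank F (LinearMap.range (f ∘ₗ LinearMap.mulLeft F e₂)) ≤ 1 := by
        simpa using Submodule.finrank_le (LinearMap.range (f ∘ₗ LinearMap.mulLeft F e₂))
      rw [← hH] at h1
      omega
    have haniso : ∀ W : Submodule F K, finrank F K < 2 * finrank F W → ∃ x ∈ W, Bq x x ≠ 0 := by
      intro W hW
      by_contra hno
      push Not at hno
      have hzero : ∀ x ∈ W, ∀ z ∈ W, Bq x z = 0 := fun x hx z hz => by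
        have h1 := hno _ (W.add_mem hx hz)
        simp only [Bq, mul_add, add_mul, map_add] at h1
        rw [show f (e₂ * x * x) = 0 from hno x hx, show f (e₂ * z * z) = 0 from hno z hz, zero_add, add_zero,
          show f (e₂ * z * x) = f (e₂ * x * z) from hBsymm z x, ← two_mul] at h1
        exact (mul_eq_zero.1 h1).resolve_left h.two
      let T : K →ₗ[F] Module.Dual F W := ((LinearMap.mul F K).compr₂ f ∘ₗ LinearMap.mulLeft F e₂).compl₂ W.subtype
      have hWle : W ≤ LinearMap.ker T := fun x hx => LinearMap.ext fun z => hzero x hx z z.2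
      have hTsurj : LinearMap.range T = ⊤ := by
        refine LinearMap.range_eq_top.2 fun χ => ?_
        obtain ⟨χ', hχ'⟩ := χ.exists_extend
        let J : K →ₗ[F] Module.Dual F K := (LinearMap.mul F K).compr₂ f ∘ₗ LinearMap.mulLeft F e₂
        have hJ : Function.Injective J := (injective_iff_map_eq_zero J).2 fun x hx => by
          have h0 := h.eq_zero_of_pairing (l := e₂ * x) fun z => by rw [mul_comm]; exact LinearMap.congr_fun hx z
          exact (mul_eq_zero.1 h0).resolve_left he₂0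
        obtain ⟨x, hx⟩ := (LinearMap.injective_iff_surjective_of_finrank_eq_finrank
          Subspace.dual_finrank_eq.symm).1 hJ χ'
        exact ⟨x, LinearMap.ext fun z => by rw [← hχ', ← hx]; rfl⟩
      have h1 := T.finrank_range_add_finrank_ker
      rw [hTsurj, finrank_top, Subspace.dual_finrank_eq] at h1
      have := Submodule.finrank_mono hWle
      omega
    obtain ⟨v₁, hv₁, hv₁0⟩ := haniso H (by have := h.three; omega)
    have hodd : Fintype.card F % 2 = 1 := FiniteField.odd_card_of_char_ne_two fun e => h.two (by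
      haveI := ringChar.of_eq e; exact CharTwo.two_eq_zero)
    obtain ⟨i, j, hij⟩ := FiniteField.exists_root_sum_quadratic (R := F)
      (f := Polynomial.C (Bq v₁ v₁) * Polynomial.X ^ 2 - Polynomial.C s⁻¹)
      (g := Polynomial.C (Bq v₁ v₁) * Polynomial.X ^ 2)
      (by rw [Polynomial.degree_sub_C (by simp [Polynomial.degree_C_mul_X_pow 2 hv₁0]),
            Polynomial.degree_C_mul_X_pow 2 hv₁0]; norm_num)
      (by rw [Polynomial.degree_C_mul_X_pow 2 hv₁0]; norm_num) hodd
    simp only [Polynomial.eval_sub, Polynomial.eval_mul, Polynomial.eval_C, Polynomial.eval_pow,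
      Polynomial.eval_X] at hij
    have hval : ∀ i : F, In ((i * i * Bq v₁ v₁) • e₂ • B.b) := fun i => by
      have h1 := key (i • v₁) e₂ (hka _) he₂0 hsq he₂f (by
        rw [smul_mul_assoc, map_smul, mul_comm v₁, show f (e₂ * v₁) = 0 from hv₁, smul_zero])
      have e1 : f (i • v₁ * (i • v₁) * e₂) = i * i * Bq v₁ v₁ := by
        rw [smul_mul_smul_comm, smul_mul_assoc, map_smul, smul_eq_mul]
        simp only [Bq]
        rw [mul_comm (v₁ * v₁) e₂, mul_assoc e₂ v₁ v₁]
      rwa [e1] at h1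
    have h1 := hadd (hval i) (hval j)
    rw [← add_smul, show i * i * Bq v₁ v₁ + j * j * Bq v₁ v₁ = s⁻¹ by linear_combination hij, he₂, smul_assoc,
      smul_smul, inv_mul_cancel₀ hs0, one_smul] at h1
    exact h1
  intro u g hg
  have hu : In u := by
    rw [h.decomp B u]
    refine hadd (hadd (hka _) (hkc _)) (hkb _ ?_)
    rw [← h.eq]
    exact hg.2.1
  exact hu.2 g hg

/-- All singular Siegel elements. -/
theorem Set3.omega_le [Finite F] (h4 : Good F V) {g : orthGroup Q} (hg : g ∈ M)
    (hne : ∃ x, ∃ k : K, g.1 (k • x) ∉ line F K (g.1 x)) : commutator (orthGroup Q) ≤ M := by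
  classical
  haveI : Fintype F := Fintype.ofFinite F
  haveI : Finite K := Module.finite_of_finite F
  haveI : Fintype K := Fintype.ofFinite K
  have hnQ := h.nondegQ
  obtain ⟨B, c, hcF, hc⟩ := h.exists_line_root hg hne
  have hbase := h.axIn_root B hcF hc
  obtain ⟨ε, hε0, -, hclass⟩ := h.exists_class
  have h2 := h.twoK
  have hcc := B.cc
  have hba : φ B.b B.a = 1 := by rw [h.symm, B.ab]
  have hca : φ B.c B.a = 0 := by rw [h.symm, B.ac]
  have hall : ∀ d, φ d d = 0 → AxIn M d := by
    intro d hd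
    rcases eq_or_ne d 0 with rfl | hd0
    · exact AxIn.zero M
    suffices H : ∃ m ∈ M, ∃ s : F, s ≠ 0 ∧ m.1 B.a = s • d by
      obtain ⟨m, hm, s, hs, he⟩ := H
      exact AxIn.of_smul hs (he ▸ hbase.map hm)
    by_cases hα : φ B.a d = 0
    · have hκ : φ B.c d = 0 := by
        rw [h.decomp B d, hα, zero_smul, add_zero] at hd
        simp [B.aa, B.ac, hca] at hd
        rcases hd with hd | hd
        · exact hd
        · exact absurd hd hcc
      obtain ⟨k, rfl⟩ := mem_line.1 ((h.mem_line_iff B).2 ⟨hα, hκ⟩)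
      have hk : k ≠ 0 := fun e => hd0 (by rw [e, zero_smul])
      rcases hclass k with ⟨l, hl⟩ | ⟨l, hl⟩
      · obtain ⟨T, hT, -, hTa⟩ := h.exists_torus B (l := l) (by rintro rfl; rw [mul_zero] at hl; exact hk hl)
        exact ⟨T, hT, 1, one_ne_zero, by rw [hTa, ← hl, one_smul]⟩
      · obtain ⟨T, hT, -, hTa⟩ := h.exists_torus B (l := l) (by
          rintro rfl
          rw [mul_zero, mul_eq_zero] at hl
          exact hl.elim (fun e => hε0 ((algebraMap F K).injective (by rw [e, map_zero]))) hk)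
        exact ⟨T, hT, ε, hε0, by rw [hTa, ← hl, mul_smul, algebraMap_smul]⟩
    · set α := φ B.a d with hα'
      set t := φ B.c d / (α * φ B.c B.c) with ht
      have hd' : d = (h.root B t).1 (α • B.b) := by
        have hβ : φ B.b d = -(φ B.c d * φ B.c d) / (2 * α * φ B.c B.c) := by
          have e := hd
          rw [h.decomp B d, ← hα'] at e
          simp [B.aa, B.ab, B.ac, B.bb, B.bc, hba, hca, h.symm B.c B.b] at e
          field_simp at e ⊢
          linear_combination e
        rw [h.root_apply]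
        conv_lhs => rw [h.decomp B d, ← hα', hβ]
        simp [B.ab, B.bc, h.symm B.c B.b, ht]
        match_scalars <;> field_simp
      obtain ⟨s, hs0, hsq⟩ : ∃ s : F, s ≠ 0 ∧ IsSquare (algebraMap F K s * α / (-φ B.c B.c / 2)) := by
        rcases hclass (α / (-φ B.c B.c / 2)) with h1 | h1
        · exact ⟨1, one_ne_zero, by rwa [map_one, one_mul]⟩
        · exact ⟨ε, hε0, by rwa [mul_div_assoc]⟩
      obtain ⟨m, hm, -, hma⟩ := h.exists_move B
        (mul_ne_zero (fun e => hs0 ((algebraMap F K).injective (by rw [e, map_zero]))) hα) hsq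
      refine ⟨h.root B t * m, mul_mem (h.root_mem B t) hm, s, hs0, ?_⟩
      show (h.root B t).1 (m.1 B.a) = _
      rw [hma, mul_smul, algebraMap_smul, map_smul, ← hd']
  have hn5 : 5 ≤ finrank F V := by rw [h.finrankV]; have := h.three; omega
  obtain ⟨hp⟩ := exists_hypPairs hnQ hn5
  rw [commutator_eq_siegelGroup hnQ h4 hp hn5]
  have hex : ∀ y : V, y ≠ 0 → ∃ r, φ r r = 0 ∧ polar Q r y ≠ 0 := by
    intro y hy
    by_contra hno
    push Not at hno
    have hperp : ∀ d, φ d d = 0 → φ d y = 0 := fun d hd => by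
      rw [h.symm]
      refine h.phi_eq_zero fun k => ?_
      rw [polar_comm]
      exact hno _ (by simp [hd])
    have ha := hperp B.a B.aa
    have hb := hperp B.b B.bb
    have hs := hperp (B.a + B.c - (2⁻¹ * φ B.c B.c) • B.b) (by
      simp [B.aa, B.bb, B.ab, B.ac, B.bc, hba, hca, h.symm B.c B.b]
      field_simp
      ring)
    simp [ha, hb] at hs
    exact hy (by rw [h.decomp B y, ha, hb, hs]; simp)
  refine siegelGroup_le_of_ax fun y hy => ?_
  rcases eq_or_ne y 0 with rfl | hy0
  · exact AxIn.zero M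
  obtain ⟨r, hr0, hry⟩ := hex y hy0
  obtain ⟨d, hd0, hdr⟩ := hex r fun e => hry (by rw [e, polar_zero_left])
  exact ax_move hnQ (hall r hr0) (h.quad_zero hr0) (h.quad_zero hd0) hy
    (by rw [polar_comm]; exact hdr) hry (hall d hd0)

end CfsgLib.Classical.FieldExtOrth3
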