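import Cfsg.Agent.Lib.Classical.FieldExtMax.Main
import Cfsg.Agent.Lib.Classical.SubfieldOrth.QuadFrame
import Cfsg.Agent.Lib.Classical.OrthMaxTS
import Cfsg.Agent.Lib.Classical.OrthMaxND
import Mathlib.NumberTheory.LegendreSymbol.QuadraticChar.Basic

/-!
# Three-dimensional orthogonal groups over extension fields: frames, root elements, images of lines
-/

set_option autoImplicit false
set_option linter.unusedSectionVars false

namespace CfsgLib.Classical.FieldExtOrth3

open Module QuadraticMap CfsgLib.Orth CfsgLib.Classical CfsgLib.Classical.FieldExtMax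

variable {F K V : Type*} [Field F] [Field K] [Algebra F K] [AddCommGroup V] [Module F V] [Module K V]
  [IsScalarTower F K V] [FiniteDimensional F K] [FiniteDimensional K V] [FiniteDimensional F V]
  {Q : QuadraticForm F V} {φ : V →ₗ[K] V →ₗ[K] K} {f : K →ₗ[F] F} {M : Subgroup (orthGroup Q)}

/-- `Q` comes from a symmetric form of dimension three over an extension of odd prime degree, and
`M` contains the squares of the isometries of that form. -/
structure Set3 (Q : QuadraticForm F V) (φ : V →ₗ[K] V →ₗ[K] K) (f : K →ₗ[F] F)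
    (M : Subgroup (orthGroup Q)) : Prop where
  two : (2 : F) ≠ 0
  symm : ∀ x y, φ x y = φ y x
  nondeg : ∀ x, (∀ y, φ x y = 0) → x = 0
  ne_zero : f ≠ 0
  eq : ∀ x y, polar Q x y = f (φ x y)
  dim : finrank K V = 3
  prime : (finrank F K).Prime
  three : 3 ≤ finrank F K
  sq : ∀ s : V ≃ₗ[K] V, (∀ x y, φ (s x) (s y) = φ x y) → ∃ e ∈ M, ∀ x, e.1 x = s (s x)

/-- A hyperbolic pair and a non-singular vector orthogonal to it. -/
structure Frame (φ : V →ₗ[K] V →ₗ[K] K) where
  a : V
  b : V
  c : V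
  aa : φ a a = 0
  bb : φ b b = 0
  ab : φ a b = 1
  ac : φ a c = 0
  bc : φ b c = 0
  cc : φ c c ≠ 0

/-- The images under `M` of the singular lines. -/
def Img (φ : V →ₗ[K] V →ₗ[K] K) (M : Subgroup (orthGroup Q)) (P : Submodule F V) : Prop :=
  ∃ h ∈ M, ∃ a : V, a ≠ 0 ∧ φ a a = 0 ∧ P = (line F K a).map h.1.toLinearMap

variable (h : Set3 Q φ f M)
include h

theorem Set3.twoK : (2 : K) ≠ 0 :=
  fun e => h.two ((algebraMap F K).injective (by rw [map_ofNat, map_zero]; exact e))

theorem Set3.quad_eq (x : V) : Q x = 2⁻¹ * f (φ x x) := by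
  rw [← h.eq, polar_self', ← mul_assoc, inv_mul_cancel₀ h.two, one_mul]

theorem Set3.quad_zero {x : V} (hx : φ x x = 0) : Q x = 0 := by rw [h.quad_eq, hx, map_zero, mul_zero]

theorem Set3.polar_smul_left (x y : V) (k : K) : polar Q (k • x) y = f (k * φ x y) := by
  rw [h.eq]; simp

theorem Set3.polar_smul_right (x y : V) (k : K) : polar Q x (k • y) = f (k * φ x y) := by
  rw [h.eq]; simp

theorem Set3.exists_scalar {l : K} (hl : l ≠ 0) (c : F) : ∃ k : K, f (k * l) = c := by
  obtain ⟨k, hk⟩ := DFunLike.ne_iff.1 h.ne_zero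
  rw [LinearMap.zero_apply] at hk
  refine ⟨(c * (f k)⁻¹) • k * l⁻¹, ?_⟩
  rw [mul_assoc, inv_mul_cancel₀ hl, mul_one, map_smul, smul_eq_mul, mul_assoc, inv_mul_cancel₀ hk, mul_one]

theorem Set3.eq_zero_of_pairing {l : K} (hl : ∀ k : K, f (k * l) = 0) : l = 0 := by
  by_contra hne
  obtain ⟨k, hk⟩ := h.exists_scalar hne (1 : F)
  rw [hl] at hk
  exact zero_ne_one hk

/-- A scalar pairing to zero with a subspace and to one with an element outside it. -/
theorem Set3.exists_scalar_perp {S : Submodule F K} {x : K} (hx : x ∉ S) :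
    ∃ e : K, (∀ s ∈ S, f (e * s) = 0) ∧ f (e * x) = 1 := by
  obtain ⟨χ, hχx, hχS⟩ := Submodule.exists_dual_map_eq_bot_of_notMem hx inferInstance
  let T : K →ₗ[F] (K →ₗ[F] F) := (LinearMap.mul F K).compr₂ f
  have hTi : Function.Injective T := (injective_iff_map_eq_zero T).2 fun e he =>
    h.eq_zero_of_pairing fun k => by rw [mul_comm]; exact LinearMap.congr_fun he k
  have hTs : Function.Surjective T := by
    refine (LinearMap.injective_iff_surjective_of_finrank_eq_finrank ?_).1 hTi
    exact Subspace.dual_finrank_eq.symm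
  obtain ⟨e, he⟩ := hTs ((χ x)⁻¹ • χ)
  refine ⟨e, fun s hs => ?_, ?_⟩
  · have h2 : χ s ∈ S.map χ := ⟨s, hs, rfl⟩
    rw [hχS, Submodule.mem_bot] at h2
    have h1 : f (e * s) = (χ x)⁻¹ * χ s := LinearMap.congr_fun he s
    rw [h1, h2, mul_zero]
  · have h1 : f (e * x) = (χ x)⁻¹ * χ x := LinearMap.congr_fun he x
    rw [h1, inv_mul_cancel₀ hχx]

theorem Set3.phi_eq_zero {x y : V} (hxy : ∀ k : K, polar Q x (k • y) = 0) : φ x y = 0 :=
  h.eq_zero_of_pairing fun k => by rw [← h.polar_smul_right]; exact hxy k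

theorem Set3.nondegQ : (QuadraticMap.polarBilin Q).Nondegenerate :=
  nondegenerate_of_left (Q := Q) fun x hx => h.nondeg x fun y => h.phi_eq_zero fun k => hx _

theorem Set3.finrankV : finrank F V = 3 * finrank F K := by
  rw [← finrank_mul_finrank F K V, h.dim, mul_comm]

/-- An element of degree at most two over `F` lies in `F`. -/
theorem Set3.quad_mem {x : K} {s t : F} (hx : x * x = s • x + t • (1 : K)) : ∃ c : F, algebraMap F K c = x := by
  classical
  by_contra hno
  push Not at hno
  set D := Submodule.span F {(1 : K), x}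
  have h1 : (1 : K) ∈ D := Submodule.subset_span (by simp)
  have h2 : x ∈ D := Submodule.subset_span (by simp)
  have hst : ∀ z ∈ D, x • z ∈ D := by
    intro z hz
    obtain ⟨p, q, rfl⟩ := Submodule.mem_span_pair.1 hz
    rw [smul_add, smul_eq_mul, smul_eq_mul, mul_smul_comm, mul_smul_comm, mul_one, hx]
    exact D.add_mem (D.smul_mem _ h2) (D.smul_mem _ (D.add_mem (D.smul_mem _ h2) (D.smul_mem _ h1)))
  have htop : D = ⊤ := eq_top_iff.2 fun z _ => by
    simpa using smul_mem_of_stable h.prime hno hst z h1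
  have h3 : finrank F D ≤ 2 := by
    have h4 := finrank_span_finset_le_card (R := F) ({(1 : K), x} : Finset K)
    rw [Finset.coe_pair] at h4
    exact h4.trans Finset.card_le_two
  rw [htop, finrank_top] at h3
  have := h.three
  omega

/-- A non-square of `F` stays a non-square and switches the square classes of `K`. -/
theorem Set3.exists_class [Finite F] :
    ∃ ε : F, ε ≠ 0 ∧ ¬ IsSquare ε ∧ ∀ x : K, IsSquare x ∨ IsSquare (algebraMap F K ε * x) := by
  classical
  haveI : Finite K := Module.finite_of_finite F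
  haveI : Fintype K := Fintype.ofFinite K
  haveI : Fintype F := Fintype.ofFinite F
  have hF : ringChar F ≠ 2 := fun e => h.two (by haveI := ringChar.of_eq e; exact CharTwo.two_eq_zero)
  have hK : ringChar K ≠ 2 := fun e => h.twoK (by haveI := ringChar.of_eq e; exact CharTwo.two_eq_zero)
  obtain ⟨ε, hε⟩ := FiniteField.exists_nonsquare hF
  have hε0 : ε ≠ 0 := by rintro rfl; exact hε IsSquare.zero
  have hεK : ¬ IsSquare (algebraMap F K ε) := by
    rintro ⟨k, hk⟩
    obtain ⟨c, rfl⟩ := h.quad_mem (x := k) (s := 0) (t := ε)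
      (by rw [← hk, zero_smul, zero_add, Algebra.algebraMap_eq_smul_one])
    exact hε ⟨c, (algebraMap F K).injective (by rw [hk, map_mul])⟩
  refine ⟨ε, hε0, hε, fun x => ?_⟩
  rcases eq_or_ne x 0 with rfl | hx
  · exact Or.inl IsSquare.zero
  by_contra hno
  push Not at hno
  have hεx : algebraMap F K ε * x ≠ 0 :=
    mul_ne_zero (fun e => hε0 ((algebraMap F K).injective (by rw [e, map_zero]))) hx
  have e1 := quadraticChar_neg_one_iff_not_isSquare.2 hno.1
  have e2 := quadraticChar_neg_one_iff_not_isSquare.2 hεK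
  have e3 := quadraticChar_neg_one_iff_not_isSquare.2 hno.2
  rw [map_mul, e1, e2] at e3
  norm_num at e3

/-! ### Frames -/

theorem Set3.decomp (B : Frame φ) (x : V) :
    x = φ B.b x • B.a + (φ B.c x / φ B.c B.c) • B.c + φ B.a x • B.b := by
  have hcc := B.cc
  have hba : φ B.b B.a = 1 := by rw [h.symm, B.ab]
  have hca : φ B.c B.a = 0 := by rw [h.symm, B.ac]
  have hcb : φ B.c B.b = 0 := by rw [h.symm, B.bc]
  have hind : LinearIndependent K ![B.a, B.b, B.c] := by
    rw [Fintype.linearIndependent_iff]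
    intro g hg
    simp only [Fin.sum_univ_three, Matrix.cons_val_zero, Matrix.cons_val_one, Matrix.cons_val] at hg
    have e1 := congrArg (φ B.a) hg
    have e2 := congrArg (φ B.b) hg
    have e3 := congrArg (φ B.c) hg
    simp [B.aa, B.ab, B.ac, B.bb, B.bc, hba, hca, hcb, hcc] at e1 e2 e3
    intro i
    fin_cases i <;> simp [e1, e2, e3]
  have hspan := hind.span_eq_top_of_card_eq_finrank (by simp [h.dim])
  have hx : x ∈ Submodule.span K (Set.range ![B.a, B.b, B.c]) := hspan ▸ Submodule.mem_top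
  obtain ⟨g, rfl⟩ := (Submodule.mem_span_range_iff_exists_fun K).1 hx
  simp only [Fin.sum_univ_three, Matrix.cons_val_zero, Matrix.cons_val_one, Matrix.cons_val, map_add, map_smul,
    smul_eq_mul, B.aa, B.ab, B.ac, B.bb, B.bc, hba, hca, hcb, mul_zero, mul_one, add_zero, zero_add]
  rw [mul_div_assoc, div_self hcc, mul_one]
  abel

theorem Set3.mem_line_iff (B : Frame φ) {x : V} : x ∈ line F K B.a ↔ φ B.a x = 0 ∧ φ B.c x = 0 := by
  constructor
  · intro hx
    obtain ⟨k, rfl⟩ := mem_line.1 hx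
    simp [B.aa, h.symm B.c B.a, B.ac]
  · rintro ⟨h1, h2⟩
    rw [h.decomp B x, h1, h2]
    simp only [zero_div, zero_smul, add_zero]; exact smul_mem_line B.a (φ B.b x)

theorem Set3.exists_frame {a : V} (ha : φ a a = 0) (ha0 : a ≠ 0) : ∃ B : Frame φ, B.a = a := by
  obtain ⟨y, hy⟩ : ∃ y, φ a y ≠ 0 := by
    by_contra hno
    push Not at hno
    exact ha0 (h.nondeg a hno)
  obtain ⟨v, hv⟩ : ∃ v, φ a v = 1 := ⟨(φ a y)⁻¹ • y, by simp [hy]⟩
  have h2 := h.twoK
  obtain ⟨b, hab, hbb⟩ : ∃ b, φ a b = 1 ∧ φ b b = 0 := by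
    refine ⟨v - (2⁻¹ * φ v v) • a, by simp [ha, hv], ?_⟩
    simp only [map_sub, map_smul, LinearMap.sub_apply, LinearMap.smul_apply, smul_eq_mul, ha, hv, h.symm v a]
    field_simp
    ring
  have hba : φ b a = 1 := by rw [h.symm, hab]
  obtain ⟨c, hc, hc0⟩ : ∃ c, c ∈ LinearMap.ker (φ a) ⊓ LinearMap.ker (φ b) ∧ c ≠ 0 := by
    refine Submodule.exists_mem_ne_zero_of_ne_bot fun e => ?_
    have h1 := (φ a).finrank_range_add_finrank_ker
    have h3 := Submodule.finrank_sup_add_finrank_inf_eq (LinearMap.ker (φ a)) (LinearMap.ker (φ b))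
    have h4 := (φ b).finrank_range_add_finrank_ker
    have h5 : finrank K (LinearMap.range (φ a)) ≤ 1 := by simpa using Submodule.finrank_le (LinearMap.range (φ a))
    have h6 : finrank K (LinearMap.range (φ b)) ≤ 1 := by simpa using Submodule.finrank_le (LinearMap.range (φ b))
    have h7 := Submodule.finrank_le (LinearMap.ker (φ a) ⊔ LinearMap.ker (φ b))
    rw [e, finrank_bot] at h3
    rw [h.dim] at h1 h4 h7
    omega
  have hac : φ a c = 0 := hc.1
  have hbc : φ b c = 0 := hc.2
  refine ⟨⟨a, b, c, ha, hbb, hab, hac, hbc, fun hcc => hc0 ?_⟩, rfl⟩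
  have hind : LinearIndependent K ![a, b, c] := by
    rw [Fintype.linearIndependent_iff]
    intro g hg
    simp only [Fin.sum_univ_three, Matrix.cons_val_zero, Matrix.cons_val_one, Matrix.cons_val] at hg
    have e1 := congrArg (φ a) hg
    have e2 := congrArg (φ b) hg
    simp [ha, hab, hac, hbb, hbc, hba] at e1 e2
    rw [e1, e2, zero_smul, zero_smul, zero_add, zero_add, smul_eq_zero] at hg
    intro i
    fin_cases i
    · simpa using e2
    · simpa using e1
    · exact hg.resolve_right hc0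
  refine h.nondeg c fun x => ?_
  have hspan := hind.span_eq_top_of_card_eq_finrank (by simp [h.dim])
  have hx : x ∈ Submodule.span K (Set.range ![a, b, c]) := hspan ▸ Submodule.mem_top
  obtain ⟨g, rfl⟩ := (Submodule.mem_span_range_iff_exists_fun K).1 hx
  simp [Fin.sum_univ_three, h.symm c a, hac, h.symm c b, hbc, hcc]

theorem Set3.exists_null [Finite F] : ∃ a : V, a ≠ 0 ∧ φ a a = 0 := by
  haveI : Finite K := Module.finite_of_finite F
  haveI : Fintype K := Fintype.ofFinite K
  obtain ⟨a, -, ha0, ha⟩ := SubfieldOrth.exists_singular_sub (Q := LinearMap.BilinMap.toQuadraticMap φ)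
    (U := (⊤ : Submodule K V)) (by rw [finrank_top, h.dim])
  exact ⟨a, ha0, ha⟩

/-- Squares of isometries lie in `M`; so do the root elements at a frame. -/
theorem Set3.exists_root (B : Frame φ) (t : K) : ∃ e : orthGroup Q, e ∈ M ∧
    ∀ x, e.1 x = x + (φ B.a x * t) • B.c +
      (-(t * φ B.c x) - 2⁻¹ * (t * t * φ B.c B.c) * φ B.a x) • B.a := by
  have h2 := h.twoK
  let Qφ : QuadraticForm K V := (2⁻¹ : K) • LinearMap.BilinMap.toQuadraticMap φ
  have hQφ : ∀ x, Qφ x = 2⁻¹ * φ x x := fun x => rfl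
  have hpolφ : ∀ x y, polar Qφ x y = φ x y := fun x y => by
    simp only [QuadraticMap.polar, hQφ, map_add, LinearMap.add_apply, h.symm y x]
    field_simp
    ring
  have hndφ : (QuadraticMap.polarBilin Qφ).Nondegenerate :=
    nondegenerate_of_left (Q := Qφ) fun x hx => h.nondeg x fun y => by rw [← hpolφ]; exact hx y
  obtain ⟨s, hs⟩ := exists_isSiegel hndφ (show Qφ B.a = 0 by rw [hQφ, B.aa, mul_zero])
    (show polar Qφ B.a ((2⁻¹ * t) • B.c) = 0 by rw [hpolφ, map_smul, B.ac, smul_zero])
  obtain ⟨e, he, hee⟩ := h.sq s.1 fun x y => by rw [← hpolφ, ← hpolφ]; exact polar_isom s x y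
  refine ⟨e, he, fun x => ?_⟩
  rw [hee, show s.1 (s.1 x) = (s * s).1 x from rfl, (hs.mul hs).2.2]
  rw [hpolφ, hpolφ, hQφ]
  simp only [map_add, map_smul, LinearMap.add_apply, LinearMap.smul_apply, smul_eq_mul]
  match_scalars <;> field_simp <;> ring

/-- The root element at a frame. -/
noncomputable def Set3.root (B : Frame φ) (t : K) : orthGroup Q := (h.exists_root B t).choose

theorem Set3.root_mem (B : Frame φ) (t : K) : h.root B t ∈ M := (h.exists_root B t).choose_spec.1

theorem Set3.root_apply (B : Frame φ) (t : K) (x : V) : (h.root B t).1 x =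
    x + (φ B.a x * t) • B.c + (-(t * φ B.c x) - 2⁻¹ * (t * t * φ B.c B.c) * φ B.a x) • B.a :=
  (h.exists_root B t).choose_spec.2 x

theorem Set3.root_smul (B : Frame φ) (t k : K) (x : V) : (h.root B t).1 (k • x) = k • (h.root B t).1 x := by
  rw [h.root_apply, h.root_apply]
  simp only [map_smul, smul_eq_mul]
  module

theorem Set3.root_fix (B : Frame φ) (t : K) (k : K) : (h.root B t).1 (k • B.a) = k • B.a := by
  rw [h.root_apply]
  simp [B.aa, h.symm B.c B.a, B.ac]

theorem Set3.root_perp (B : Frame φ) (t : K) {x : V} (hx : φ B.a x = 0) :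
    (h.root B t).1 x = x - (t * φ B.c x) • B.a := by
  rw [h.root_apply, hx]
  simp [sub_eq_add_neg]

theorem Set3.root_add (B : Frame φ) (s t : K) : h.root B (s + t) = h.root B s * h.root B t := by
  refine Subtype.ext (LinearEquiv.ext fun x => ?_)
  show _ = (h.root B s).1 ((h.root B t).1 x)
  have e1 : φ B.a ((h.root B t).1 x) = φ B.a x := by rw [h.root_apply]; simp [B.aa, B.ac]
  have e2 : φ B.c ((h.root B t).1 x) = φ B.c x + φ B.a x * t * φ B.c B.c := by
    rw [h.root_apply]; simp [h.symm B.c B.a, B.ac]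
  rw [h.root_apply B (s + t), h.root_apply B s, e1, e2, h.root_apply B t]
  have h2 := h.twoK
  match_scalars <;> field_simp <;> ring

theorem Set3.root_zero (B : Frame φ) : h.root B 0 = 1 :=
  Subtype.ext (LinearEquiv.ext fun x => by rw [h.root_apply]; simp)

/-- The root group at a frame. -/
noncomputable def Set3.rootHom (B : Frame φ) : Multiplicative K →* orthGroup Q where
  toFun t := h.root B t.toAdd
  map_one' := h.root_zero B
  map_mul' s t := h.root_add B _ _

omit h

theorem Img.map {P : Submodule F V} (hP : Img φ M P) {g : orthGroup Q} (hg : g ∈ M) :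
    Img φ M (P.map g.1.toLinearMap) := by
  obtain ⟨k, hk, a, ha0, ha, rfl⟩ := hP
  refine ⟨g * k, mul_mem hg hk, a, ha0, ha, ?_⟩
  rw [← Submodule.map_comp]
  rfl

theorem img_line {a : V} (ha : φ a a = 0) (ha0 : a ≠ 0) : Img φ M (line F K a) :=
  ⟨1, one_mem M, a, ha0, ha, (Submodule.map_id _).symm⟩

theorem Img.finrank_eq {P : Submodule F V} (hP : Img φ M P) : finrank F P = finrank F K := by
  obtain ⟨k, -, a, ha0, -, rfl⟩ := hP
  exact (LinearEquiv.finrank_map_eq k.1 _).trans (finrank_line ha0)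

include h

theorem Set3.polar_eq_zero {P : Submodule F V} (hP : Img φ M P) {x y : V} (hx : x ∈ P) (hy : y ∈ P) :
    polar Q x y = 0 := by
  obtain ⟨k, -, a, -, ha, rfl⟩ := hP
  obtain ⟨x', hx', rfl⟩ := hx
  obtain ⟨y', hy', rfl⟩ := hy
  obtain ⟨l, rfl⟩ := mem_line.1 hx'
  obtain ⟨m, rfl⟩ := mem_line.1 hy'
  show polar Q (k.1 _) (k.1 _) = 0
  rw [polar_isom, h.eq]
  simp [ha]

/-- A subspace of the dimension of a line invariant under the root group is the line. -/
theorem Set3.eq_line_of_invariant (B : Frame φ) {N : Submodule F V} (hN : finrank F N = finrank F K)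
    (hinv : ∀ t, ∀ x ∈ N, (h.root B t).1 x ∈ N) : N = line F K B.a := by
  have hcc := B.cc
  have h2 := h.twoK
  have ha0 : B.a ≠ 0 := fun e => one_ne_zero (α := K) (by rw [← B.ab, e]; simp)
  have hline : ∀ x ∈ N, x ∈ line F K B.a ∨ line F K B.a ≤ N := by
    intro x hx
    by_cases hxl : x ∈ line F K B.a
    · exact Or.inl hxl
    refine Or.inr (line_le_iff.2 fun k => ?_)
    by_cases hα : φ B.a x = 0
    · have hκ : φ B.c x ≠ 0 := fun e => hxl ((h.mem_line_iff B).2 ⟨hα, e⟩)
      have h1 := N.sub_mem hx (hinv (k / φ B.c x) x hx)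
      rwa [h.root_perp B _ hα, sub_sub_cancel, div_mul_cancel₀ _ hκ] at h1
    · have sqr : ∀ t : K, (t * t * φ B.c B.c * φ B.a x) • B.a ∈ N := fun t => by
        have h1 := N.sub_mem (N.add_mem hx hx) (N.add_mem (hinv t x hx) (hinv (-t) x hx))
        rw [h.root_apply, h.root_apply] at h1
        convert h1 using 1
        match_scalars <;> field_simp <;> ring
      set w := k / (φ B.c B.c * φ B.a x) with hw
      have h1 := N.sub_mem (sqr ((w + 1) * 2⁻¹)) (sqr ((w - 1) * 2⁻¹))
      rw [← sub_smul] at h1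
      convert h1 using 2
      rw [hw]
      field_simp
      ring
  by_cases hle : N ≤ line F K B.a
  · exact Submodule.eq_of_le_of_finrank_le hle (by rw [hN, finrank_line ha0])
  obtain ⟨x, hx, hxl⟩ := SetLike.not_le_iff_exists.1 hle
  exact (Submodule.eq_of_le_of_finrank_le ((hline x hx).resolve_left hxl) (by rw [hN, finrank_line ha0])).symm

end CfsgLib.Classical.FieldExtOrth3
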