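import Cfsg.Agent.Lib.Classical.FieldExtOrth3.Line
import Mathlib.GroupTheory.PGroup

/-!
# Growing the intersection by counting fixed points of `p`-groups
-/

set_option autoImplicit false
set_option linter.unusedSectionVars false

namespace CfsgLib.Classical.FieldExtOrth3

open Module QuadraticMap CfsgLib.Orth CfsgLib.Classical CfsgLib.Classical.FieldExtMax

variable {F K V : Type*} [Field F] [Field K] [Algebra F K] [AddCommGroup V] [Module F V] [Module K V]
  [IsScalarTower F K V] [FiniteDimensional F K] [FiniteDimensional K V] [FiniteDimensional F V]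
  {Q : QuadraticForm F V} {φ : V →ₗ[K] V →ₗ[K] K} {f : K →ₗ[F] F} {M : Subgroup (orthGroup Q)}

variable (h : Set3 Q φ f M)
include h

/-- One step, or a Siegel element on a singular line. -/
theorem Set3.grow [Finite F] {B : Frame φ} {P : Submodule F V} {y : V} (hA : Adj φ M B P y)
    (hd : finrank F (P ⊓ line F K B.a : Submodule F V) + 1 < finrank F K) :
    (∃ N, Adj φ M B N y ∧
      finrank F (P ⊓ line F K B.a : Submodule F V) < finrank F (N ⊓ line F K B.a : Submodule F V)) ∨
      HasRoot φ M := by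
  classical
  haveI : Finite K := Module.finite_of_finite F
  haveI : Finite V := Module.finite_of_finite F
  haveI : Finite (Submodule F V) := Finite.of_injective (fun W => (W : Set V)) SetLike.coe_injective
  set D := P ⊓ line F K B.a with hD
  set d := finrank F D with hd'
  have hcc := B.cc
  have h2 := h.twoK
  have ha0 : B.a ≠ 0 := fun e => one_ne_zero (α := K) (by rw [← B.ab, e]; simp)
  set η := φ B.c y with hη
  have hη0 : η ≠ 0 := fun e => hA.y_not ((h.mem_line_iff B).2 ⟨hA.perp, e⟩)
  have haD : B.a ∈ D := ⟨hA.a_mem, self_mem_line _⟩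
  -- the parameters fixing `X`
  set S := (LinearMap.toSpanSingleton K V B.a).restrictScalars F with hS
  have hSinj : Function.Injective S := smul_left_injective K ha0
  set Dk := D.comap S with hDk
  have hDkfin : finrank F Dk = d := by
    rw [(Submodule.equivMapOfInjective S hSinj Dk).finrank_eq, hDk, Submodule.map_comap_eq_self fun x hx => by
      obtain ⟨k, hk⟩ := mem_line.1 hx.2
      exact ⟨k, hk⟩]
  set T := Dk.comap (LinearMap.mulRight F η) with hT
  have hTmem : ∀ t, t ∈ T ↔ (t * η) • B.a ∈ D := fun t => Iff.rfl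
  have hTfin : finrank F T = d := by
    rw [(Submodule.equivMapOfInjective (LinearMap.mulRight F η) (mul_left_injective₀ hη0) T).finrank_eq, hT,
      ← hDkfin, Submodule.map_comap_eq_self fun x _ => ⟨x / η, div_mul_cancel₀ x hη0⟩]
  set X := D ⊔ (F ∙ y) with hX
  have hXP : X ≤ P := sup_le inf_le_left ((Submodule.span_singleton_le_iff_mem _ _).2 hA.y_mem)
  have hyX : y ∈ X := Submodule.mem_sup_right (Submodule.mem_span_singleton_self y)
  letI : MulAction (orthGroup Q) (Submodule F V) :=
    { smul := fun g W => W.map g.1.toLinearMap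
      one_smul := fun W => Submodule.map_id W
      mul_smul := fun g g' W => Submodule.map_comp _ _ _ }
  let G : Subgroup (orthGroup Q) := M ⊓ MulAction.stabilizer (orthGroup Q) X
  have hG : ∀ g, g ∈ G ↔ g ∈ M ∧ X.map g.1.toLinearMap = X := fun g => Iff.rfl
  have hGle : ∀ g ∈ M, X.map g.1.toLinearMap ≤ X → g ∈ G := fun g hg hle =>
    (hG g).2 ⟨hg, Submodule.eq_of_le_of_finrank_le hle (LinearEquiv.finrank_map_eq g.1 X).ge⟩
  have hET : ∀ t ∈ T, h.root B t ∈ G := by
    intro t ht
    refine hGle _ (h.root_mem B t) ?_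
    rw [hX, Submodule.map_sup, Submodule.map_span, Set.image_singleton]
    refine sup_le ?_ ?_
    · rintro _ ⟨x, hx, rfl⟩
      obtain ⟨k, rfl⟩ := mem_line.1 hx.2
      show (h.root B t).1 (k • B.a) ∈ _
      rw [h.root_fix]
      exact Submodule.mem_sup_left hx
    · rw [Submodule.span_singleton_le_iff_mem]
      show (h.root B t).1 y ∈ _
      rw [h.root_perp B t hA.perp]
      exact (D ⊔ (F ∙ y)).sub_mem hyX (Submodule.mem_sup_left ht)
  obtain ⟨g₀, hg₀, a₀, ha₀0, ha₀, hPg⟩ := id hA.img
  obtain ⟨B₀, hB₀⟩ := h.exists_frame ha₀ ha₀0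
  have hconj : ∀ t, g₀ * h.root B₀ t * g₀⁻¹ ∈ G := by
    intro t
    refine hGle _ (mul_mem (mul_mem hg₀ (h.root_mem B₀ t)) (inv_mem hg₀)) ?_
    rintro _ ⟨x, hx, rfl⟩
    obtain ⟨w, hw, rfl⟩ := hPg.le (hXP hx)
    obtain ⟨k, rfl⟩ := mem_line.1 hw
    show g₀.1 ((h.root B₀ t).1 (g₀.1.symm (g₀.1 (k • a₀)))) ∈ X
    rw [g₀.1.symm_apply_apply, ← hB₀, h.root_fix, hB₀]
    exact hx
  -- the orbit
  set O := MulAction.orbit G P with hO
  haveI : Finite O := Subtype.finite
  haveI : Finite G := Finite.of_injective (fun g : G => (⇑g.1.1 : V → V)) fun g g' e =>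
    Subtype.ext (Subtype.ext (LinearEquiv.ext fun x => congrFun e x))
  obtain ⟨p, hp⟩ := CharP.exists F
  haveI := hp
  haveI : Fintype F := Fintype.ofFinite F
  haveI hpp : Fact p.Prime := ⟨(CharP.char_is_prime_or_zero F p).resolve_right (CharP.char_ne_zero_of_finite F p)⟩
  obtain ⟨n, -, hn⟩ := FiniteField.card F p
  have hpg : ∀ (W : Type _) [AddCommGroup W] [Module F W] [Module.Finite F W], IsPGroup p (Multiplicative W) := by
    intro W _ _ _
    refine IsPGroup.of_card (n := n * finrank F W) ?_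
    rw [Nat.card_congr Multiplicative.toAdd, Module.natCard_eq_pow_finrank (K := F), Nat.card_eq_fintype_card, hn,
      pow_mul]
  let ρ : Multiplicative K →* G := MonoidHom.codRestrict
    ((MulAut.conj g₀).toMonoidHom.comp (h.rootHom B₀)) G fun t => hconj t.toAdd
  let σ : Multiplicative T →* G :=
    { toFun := fun t => ⟨h.root B t.toAdd.1, hET _ t.toAdd.2⟩
      map_one' := Subtype.ext (h.root_zero B)
      map_mul' := fun s t => Subtype.ext (h.root_add B _ _) }
  have hne0 : ¬ Nat.card O ≡ 0 [MOD p] := by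
    letI : MulAction (Multiplicative K) O := MulAction.compHom O ρ
    intro hcon
    have h1 := (hpg K).card_modEq_card_fixedPoints O
    have hfix : MulAction.fixedPoints (Multiplicative K) O = {⟨P, MulAction.mem_orbit_self P⟩} := by
      ext ⟨N, hN⟩
      simp only [MulAction.mem_fixedPoints, Set.mem_singleton_iff, Subtype.mk.injEq]
      constructor
      · intro hfx
        obtain ⟨g, hg⟩ := hN
        have hNfin : finrank F N = finrank F K := by
          rw [← hg]
          exact (LinearEquiv.finrank_map_eq g.1.1 P).trans hA.img.finrank_eq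
        have h5 := h.eq_line_of_invariant B₀ (N := N.map (g₀⁻¹).1.toLinearMap)
          ((LinearEquiv.finrank_map_eq _ _).trans hNfin) fun t x hx => by
            obtain ⟨w, hw, rfl⟩ := hx
            have h6 := Subtype.ext_iff.1 (hfx (Multiplicative.ofAdd t))
            change N.map (g₀ * h.root B₀ t * g₀⁻¹).1.toLinearMap = N at h6
            exact ⟨(g₀ * h.root B₀ t * g₀⁻¹).1 w, h6.le ⟨w, hw, rfl⟩, g₀.1.symm_apply_apply _⟩
        rw [hPg, ← hB₀, ← h5, ← Submodule.map_comp]
        symm
        convert Submodule.map_id N using 2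
        ext x
        exact inv_apply g₀ x
      · rintro rfl t
        refine Subtype.ext ?_
        show N.map (g₀ * h.root B₀ t.toAdd * g₀⁻¹).1.toLinearMap = N
        refine Submodule.eq_of_le_of_finrank_le ?_ (LinearEquiv.finrank_map_eq _ _).ge
        rintro _ ⟨x, hx, rfl⟩
        obtain ⟨w, hw, rfl⟩ := hPg.le hx
        obtain ⟨k, rfl⟩ := mem_line.1 hw
        show g₀.1 ((h.root B₀ t.toAdd).1 (g₀.1.symm (g₀.1 (k • a₀)))) ∈ N
        rw [g₀.1.symm_apply_apply, ← hB₀, h.root_fix, hB₀]
        exact hx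
    have hone : Nat.card (MulAction.fixedPoints (Multiplicative K) O) = 1 := by rw [hfix]; exact Nat.card_unique
    rw [hone] at h1
    have h3 : 1 % p = 0 % p := h1.symm.trans hcon
    rw [Nat.zero_mod, Nat.one_mod_eq_zero_iff] at h3
    exact hpp.out.ne_one h3
  letI : MulAction (Multiplicative T) O := MulAction.compHom O σ
  have h1 := (hpg T).card_modEq_card_fixedPoints O
  obtain ⟨⟨⟨N, hN⟩, hNfix⟩⟩ : Nonempty (MulAction.fixedPoints (Multiplicative T) O) := by
    by_contra hno
    rw [not_nonempty_iff] at hno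
    rw [Nat.card_eq_zero.2 (Or.inl hno)] at h1
    exact hne0 h1
  obtain ⟨⟨g, hgG⟩, hgN⟩ := hN
  change P.map g.1.toLinearMap = N at hgN
  have hNimg : Img φ M N := hgN ▸ Img.map hA.img ((hG g).1 hgG).1
  have hXN : X ≤ N := by rw [← hgN, ← ((hG g).1 hgG).2]; exact Submodule.map_mono hXP
  have hinv : ∀ t ∈ T, ∀ x ∈ N, (h.root B t).1 x ∈ N := fun t ht x hx =>
    (Subtype.ext_iff.1 (hNfix (Multiplicative.ofAdd ⟨t, ht⟩))).le ⟨x, hx, rfl⟩
  by_cases h3 : finrank F K = 3
  · -- degree three: a root element stabilises the image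
    right
    have hdpos : 0 < d := by
      rw [hd']
      exact finrank_pos_iff_exists_ne_zero.2 ⟨⟨B.a, haD⟩, fun e0 => ha0 (congrArg Subtype.val e0)⟩
    obtain ⟨t₀, ht₀, ht₀0⟩ := Submodule.exists_mem_ne_zero_of_ne_bot (p := T) fun e0 => by
      rw [e0, finrank_bot] at hTfin; omega
    refine h.root_of_invariant h3 hNimg (hinv t₀ ht₀) (hXN (Submodule.mem_sup_left haD)) (hXN hyX) ?_
    rw [h.root_perp B t₀ hA.perp]
    intro e
    rw [sub_eq_self, smul_eq_zero] at e
    exact e.elim (mul_ne_zero ht₀0 hη0) ha0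
  left
  refine ⟨N, ⟨hNimg, hXN (Submodule.mem_sup_left haD), hXN hyX, hA.perp, hA.y_not⟩, ?_⟩
  have hDN : D ≤ N ⊓ line F K B.a := le_inf (le_sup_left.trans hXN) inf_le_right
  refine lt_of_le_of_ne (Submodule.finrank_mono hDN) fun e => ?_
  have heq : D = N ⊓ line F K B.a := Submodule.eq_of_le_of_finrank_le hDN e.ge
  have hdpos : 0 < d := by
    rw [hd']
    exact finrank_pos_iff_exists_ne_zero.2 ⟨⟨B.a, haD⟩, fun e0 => ha0 (congrArg Subtype.val e0)⟩
  have hTlt : finrank F T < finrank F K := by omega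
  -- a multiplier of the parameters is a scalar
  have hscal : ∀ κ : K, (∀ t ∈ T, t * κ / η ∈ T) → ∃ c : F, algebraMap F K c = κ / η := by
    intro κ hκ
    by_contra hno
    push Not at hno
    obtain ⟨t, ht, ht0⟩ := Submodule.exists_mem_ne_zero_of_ne_bot (p := T) fun e0 => by
      rw [e0, finrank_bot] at hTfin; omega
    have hst := smul_mem_of_stable h.prime hno (D := T) fun x hx => by
      have := hκ x hx
      rwa [smul_eq_mul, mul_comm, ← mul_div_assoc]
    have htop : T = ⊤ := eq_top_iff.2 fun z _ => by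
      have := hst (z / t) ht
      rwa [smul_eq_mul, div_mul_cancel₀ z ht0] at this
    rw [htop, finrank_top] at hTlt
    exact lt_irrefl _ hTlt
  have hperp : ∀ x ∈ N, φ B.a x = 0 → ∃ c : F, φ B.c x = c • η := by
    intro x hx hxa
    obtain ⟨c, hc⟩ := hscal (φ B.c x) fun t ht => by
      rw [hTmem, div_mul_cancel₀ _ hη0, heq]
      refine ⟨?_, smul_mem_line _ _⟩
      have := N.sub_mem hx (hinv t ht x hx)
      rwa [h.root_perp B t hxa, sub_sub_cancel] at this
    exact ⟨c, by rw [Algebra.smul_def, hc, div_mul_cancel₀ _ hη0]⟩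
  let αN : N →ₗ[F] K := (φ B.a).restrictScalars F ∘ₗ N.subtype
  have hker : finrank F (LinearMap.ker αN) ≤ d + 1 := by
    have hle : (LinearMap.ker αN).map N.subtype ≤ X := by
      rintro _ ⟨⟨x, hx⟩, hxk, rfl⟩
      have hxa : φ B.a x = 0 := hxk
      obtain ⟨c, hc⟩ := hperp x hx hxa
      have h3 : x - c • y ∈ D := by
        rw [heq]
        refine ⟨N.sub_mem hx (N.smul_mem _ (hXN hyX)), (h.mem_line_iff B).2 ⟨?_, ?_⟩⟩
        · simp [LinearMap.map_smul_of_tower, hxa, hA.perp]
        · simp [LinearMap.map_smul_of_tower, hc, hη]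
      have h4 := X.add_mem (Submodule.mem_sup_left h3) (X.smul_mem c hyX)
      rwa [sub_add_cancel] at h4
    have h3 := Submodule.finrank_mono hle
    rw [← (Submodule.equivMapOfInjective _ N.injective_subtype _).finrank_eq] at h3
    have h4 := Submodule.finrank_add_le_finrank_add_finrank D (F ∙ y)
    have hy0 : y ≠ 0 := fun e => hA.y_not (e ▸ (line F K B.a).zero_mem)
    have h6 : finrank F (F ∙ y) ≤ 1 := (finrank_span_singleton hy0).le
    rw [hX] at h3
    omega
  have hoff : ∀ x ∈ N, ∀ t ∈ T, ∃ c : F, φ B.a x * t * φ B.c B.c = c • η := by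
    intro x hx t ht
    have hz : (φ B.a x * t) • B.c + (-(t * φ B.c x)) • B.a ∈ N := by
      have h3 := N.smul_mem (2⁻¹ : F) (N.sub_mem (hinv t ht x hx) (hinv (-t) (T.neg_mem ht) x hx))
      have e2 : ((2 : K)⁻¹) = algebraMap F K (2⁻¹ : F) := by rw [map_inv₀, map_ofNat]
      rw [h.root_apply, h.root_apply, ← algebraMap_smul K (2⁻¹ : F), ← e2] at h3
      convert h3 using 1
      match_scalars <;> field_simp <;> ring
    obtain ⟨c, hc⟩ := hperp _ hz (by simp [B.aa, B.ac])
    simp [h.symm B.c B.a, B.ac] at hc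
    exact ⟨c, hc⟩
  obtain ⟨t₀, ht₀, ht₀0⟩ := Submodule.exists_mem_ne_zero_of_ne_bot (p := T) fun e0 => by
    rw [e0, finrank_bot] at hTfin; omega
  have hran : LinearMap.range αN ≤ F ∙ (η / (t₀ * φ B.c B.c)) := by
    rintro _ ⟨⟨x, hx⟩, rfl⟩
    obtain ⟨c, hc⟩ := hoff x hx t₀ ht₀
    refine Submodule.mem_span_singleton.2 ⟨c, ?_⟩
    show c • (η / (t₀ * φ B.c B.c)) = φ B.a x
    rw [← smul_div_assoc, ← hc]
    field_simp
  have hran1 : finrank F (LinearMap.range αN) ≤ 1 :=
    (Submodule.finrank_mono hran).trans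
      (finrank_span_singleton (div_ne_zero hη0 (mul_ne_zero ht₀0 hcc))).le
  have h3 := αN.finrank_range_add_finrank_ker
  rw [hNimg.finrank_eq] at h3
  -- equality: the vectors off `ker α` need a single parameter
  rcases Nat.lt_or_ge d 2 with hd2 | hd2
  · have := h.three
    have h4 : finrank F K ≠ 4 := fun e4 => by have := h.prime; rw [e4] at this; norm_num at this
    omega
  · have hzero : LinearMap.range αN = ⊥ := by
      refine (Submodule.eq_bot_iff _).2 ?_
      rintro _ ⟨⟨x, hx⟩, rfl⟩
      by_contra hne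
      have hne' : φ B.a x ≠ 0 := hne
      have hTle : T ≤ F ∙ (η / (φ B.a x * φ B.c B.c)) := fun t ht => by
        obtain ⟨c, hc⟩ := hoff x hx t ht
        refine Submodule.mem_span_singleton.2 ⟨c, ?_⟩
        rw [← smul_div_assoc, ← hc]
        field_simp
      have := (Submodule.finrank_mono hTle).trans (finrank_span_singleton (div_ne_zero hη0 (mul_ne_zero hne' hcc))).le
      omega
    rw [hzero, finrank_bot] at h3
    omega

/-- The intersection reaches a hyperplane. -/
theorem Set3.exists_hyperplane [Finite F] {g : orthGroup Q} (hg : g ∈ M)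
    (hne : ∃ x, ∃ k : K, g.1 (k • x) ∉ line F K (g.1 x)) :
    (∃ (B : Frame φ) (P : Submodule F V) (y : V), Adj φ M B P y ∧
      finrank F (P ⊓ line F K B.a : Submodule F V) + 1 = finrank F K) ∨ HasRoot φ M := by
  by_cases hroot : HasRoot φ M
  · exact Or.inr hroot
  left
  obtain ⟨B, P₀, y, hA⟩ := h.exists_adj hg hne
  suffices H : ∀ n P, Adj φ M B P y → finrank F K ≤ finrank F (P ⊓ line F K B.a : Submodule F V) + n →
      ∃ P', Adj φ M B P' y ∧ finrank F (P' ⊓ line F K B.a : Submodule F V) + 1 = finrank F K by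
    obtain ⟨P', h1, h3⟩ := H (finrank F K) P₀ hA (by omega)
    exact ⟨B, P', y, h1, h3⟩
  intro n
  induction n with
  | zero =>
    intro P hP hn
    exfalso
    have hlt : finrank F (P ⊓ line F K B.a : Submodule F V) < finrank F P :=
      Submodule.finrank_lt_finrank_of_lt (lt_of_le_of_ne inf_le_left fun e => hP.y_not (e.ge hP.y_mem).2)
    rw [hP.img.finrank_eq] at hlt
    omega
  | succ n ih =>
    intro P hP hn
    have hlt : finrank F (P ⊓ line F K B.a : Submodule F V) < finrank F P :=
      Submodule.finrank_lt_finrank_of_lt (lt_of_le_of_ne inf_le_left fun e => hP.y_not (e.ge hP.y_mem).2)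
    rw [hP.img.finrank_eq] at hlt
    by_cases he : finrank F (P ⊓ line F K B.a : Submodule F V) + 1 = finrank F K
    · exact ⟨P, hP, he⟩
    · obtain ⟨N, hN, hlt'⟩ := (h.grow hP (by omega)).resolve_right hroot
      exact ih N hN (by omega)

end CfsgLib.Classical.FieldExtOrth3
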