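import Cfsg.Agent.Lib.Classical.FieldExtOrth3.Adjacent

/-!
# Elements of an overgroup preserving a singular line, degree three

Such an element is semilinear unless the overgroup has a Siegel element on a singular line.
-/

set_option autoImplicit false
set_option linter.unusedSectionVars false

namespace CfsgLib.Classical.FieldExtOrth3

open Module QuadraticMap CfsgLib.Orth CfsgLib.Classical CfsgLib.Classical.FieldExtMax

variable {F K V : Type*} [Field F] [Field K] [Algebra F K] [AddCommGroup V] [Module F V] [Module K V]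
  [IsScalarTower F K V] [FiniteDimensional F K] [FiniteDimensional K V] [FiniteDimensional F V]
  {Q : QuadraticForm F V} {φ : V →ₗ[K] V →ₗ[K] K} {f : K →ₗ[F] F} {M : Subgroup (orthGroup Q)}

/-- `M` has a Siegel element with both vectors on one singular line. -/
def HasRoot (φ : V →ₗ[K] V →ₗ[K] K) (M : Subgroup (orthGroup Q)) : Prop :=
  ∃ (B : Frame φ) (c : K), (∀ t : F, algebraMap F K t ≠ c) ∧ SiegelIn M B.a (c • B.a)

/-- A multiplicative additive map fixing an element outside the prime subfield extension is the identity. -/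
theorem eq_id_of_fixed (hr : (finrank F K).Prime) (σ : K →ₗ[F] K) (hmul : ∀ k l, σ (k * l) = σ k * σ l)
    (hone : σ 1 = 1) {m : K} (hm : σ m = m) (hmF : ∀ c : F, algebraMap F K c ≠ m) (k : K) : σ k = k := by
  let D : Submodule F K := LinearMap.ker (σ - LinearMap.id)
  have hD : ∀ x, x ∈ D ↔ σ x = x := fun x => by simp [D, sub_eq_zero]
  have h1 := smul_mem_of_stable hr hmF (D := D) (fun x hx => by
    rw [hD, smul_eq_mul, hmul, hm, (hD x).1 hx]) k ((hD 1).2 hone)
  rw [smul_eq_mul, mul_one, hD] at h1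
  exact h1

variable (h : Set3 Q φ f M)
include h

theorem Set3.phi_ext {u v : K} (huv : ∀ k : K, f (k * u) = f (k * v)) : u = v := by
  refine sub_eq_zero.1 (h.eq_zero_of_pairing fun k => ?_)
  rw [mul_sub, map_sub, huv, sub_self]

/-- An element fixing the line pointwise preserves the pairing with it. -/
theorem Set3.phi_of_fix (B : Frame φ) {m : orthGroup Q} (hL : ∀ k : K, m.1 (k • B.a) = k • B.a) (x : V) :
    φ B.a (m.1 x) = φ B.a x := by
  refine h.phi_ext fun k => ?_
  rw [← h.polar_smul_left, ← h.polar_smul_left, ← hL k, polar_isom, hL k]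

/-- An element fixing pointwise the orthogonal of a line gives a Siegel element. -/
theorem Set3.root_of_fix_perp (h3 : finrank F K = 3) (B : Frame φ) {m : orthGroup Q} (hm : m ∈ M)
    (hfix : ∀ x, φ B.a x = 0 → m.1 x = x) (hne : m ≠ 1) : HasRoot φ M := by
  classical
  have hba : φ B.b B.a = 1 := by rw [h.symm, B.ab]
  have hca : φ B.c B.a = 0 := by rw [h.symm, B.ac]
  have hL : ∀ k : K, m.1 (k • B.a) = k • B.a := fun k => hfix _ (by simp [B.aa])
  have hline : ∀ x, m.1 x - x ∈ line F K B.a := fun x => by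
    refine (h.mem_line_iff B).2 ⟨by rw [map_sub, h.phi_of_fix B hL, sub_self], ?_⟩
    rw [map_sub, sub_eq_zero]
    refine h.phi_ext fun k => ?_
    have e : m.1 (k • B.c) = k • B.c := hfix _ (by simp [B.ac])
    rw [← h.polar_smul_left, ← h.polar_smul_left, ← e, polar_isom, e]
  let δ : K →ₗ[F] K := (φ B.b).restrictScalars F ∘ₗ
    ((m.1.toLinearMap - LinearMap.id) ∘ₗ (LinearMap.toSpanSingleton K V B.b).restrictScalars F)
  have hδ : ∀ k : K, δ k = φ B.b (m.1 (k • B.b) - k • B.b) := fun k => rfl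
  have hmx : ∀ x, m.1 x = x + δ (φ B.a x) • B.a := by
    intro x
    set k := φ B.a x with hk
    have e1 : m.1 (x - k • B.b) = x - k • B.b := hfix _ (by simp [B.ab, hk])
    rw [map_sub] at e1
    obtain ⟨j, hj⟩ := mem_line.1 (hline (k • B.b))
    have ej : δ k = j := by rw [hδ, ← hj]; simp [hba]
    rw [ej, hj, ← sub_eq_zero]
    rw [sub_eq_iff_eq_add.1 e1]
    abel
  have hskew : ∀ k l, f (δ k * l) + f (δ l * k) = 0 := by
    intro k l
    have e := polar_isom m (k • B.b) (l • B.b)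
    rw [hmx, hmx, h.eq, h.eq] at e
    simp [B.bb, B.ab, B.aa, hba] at e
    rw [mul_comm (δ l) k]
    linear_combination e
  obtain ⟨k₀, hk₀⟩ : ∃ k, δ k ≠ 0 := by
    by_contra hall
    push Not at hall
    exact hne (Subtype.ext (LinearEquiv.ext fun x => by rw [hmx, hall, zero_smul, add_zero]; rfl))
  obtain ⟨k₂, hc₀⟩ : ∃ k, f (δ k₀ * k) ≠ 0 := by
    obtain ⟨k, hk⟩ := h.exists_scalar hk₀ (1 : F)
    exact ⟨k, by rw [mul_comm, hk]; exact one_ne_zero⟩
  set c₀ := f (δ k₀ * k₂) with hc₀'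
  have h00 : ∀ k, f (δ k * k) = 0 := fun k => mul_left_cancel₀ h.two (by
    rw [mul_zero]; linear_combination hskew k k)
  have h20 : f (δ k₂ * k₀) = -c₀ := by linear_combination hskew k₀ k₂
  let χ : K →ₗ[F] F × F := (f ∘ₗ LinearMap.mulLeft F (δ k₀)).prod (f ∘ₗ LinearMap.mulLeft F (δ k₂))
  have hχ : ∀ k, χ k = (f (δ k₀ * k), f (δ k₂ * k)) := fun k => rfl
  have hsurj : LinearMap.range χ = ⊤ := by
    refine LinearMap.range_eq_top.2 fun p => ⟨(p.1 / c₀) • k₂ - (p.2 / c₀) • k₀, ?_⟩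
    rw [map_sub, map_smul, map_smul, hχ, hχ, h00, h00, h20, ← hc₀']
    refine Prod.ext ?_ ?_ <;> simp [hc₀]
  have hker : finrank F (LinearMap.ker χ) = 1 := by
    have e := χ.finrank_range_add_finrank_ker
    rw [hsurj, finrank_top, Module.finrank_prod, Module.finrank_self, h3] at e
    omega
  have hW : ∀ k ∈ LinearMap.ker χ, δ k = 0 := by
    intro k hk
    refine h.eq_zero_of_pairing fun j => ?_
    rw [mul_comm]
    set w := j - (f (δ k₀ * j) / c₀) • k₂ + (f (δ k₂ * j) / c₀) • k₀ with hw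
    have hwk : w ∈ LinearMap.ker χ := by
      rw [LinearMap.mem_ker, hw, map_add, map_sub, map_smul, map_smul, hχ, hχ, hχ, h00, h00, h20, ← hc₀']
      refine Prod.ext ?_ ?_ <;> simp [hc₀]
    obtain ⟨hk0, hk2⟩ : f (δ k₀ * k) = 0 ∧ f (δ k₂ * k) = 0 := by simpa [hχ] using LinearMap.mem_ker.1 hk
    have hkw : f (δ k * w) = 0 := by
      rcases eq_or_ne k 0 with rfl | hk'
      · simp
      have e : LinearMap.ker χ = F ∙ k := (Submodule.eq_of_le_of_finrank_le
        ((Submodule.span_singleton_le_iff_mem _ _).2 hk) (by rw [hker, finrank_span_singleton hk'])).symm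
      obtain ⟨c, hc⟩ := Submodule.mem_span_singleton.1 (e ▸ hwk)
      rw [← hc, mul_smul_comm, map_smul, h00, smul_zero]
    have e0 : f (δ k * k₀) = 0 := by linear_combination hskew k k₀ - hk0
    have e2 : f (δ k * k₂) = 0 := by linear_combination hskew k k₂ - hk2
    have ej : j = w + (f (δ k₀ * j) / c₀) • k₂ - (f (δ k₂ * j) / c₀) • k₀ := by rw [hw]; abel
    rw [ej, mul_sub, mul_add, mul_smul_comm, mul_smul_comm, map_sub, map_add, map_smul, map_smul, e0, e2, hkw]
    simp
  set p := δ k₀ with hp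
  set q := c₀⁻¹ • δ k₂ with hq
  have hδf : ∀ k, δ k = f (p * k) • q - f (q * k) • p := by
    intro k
    have hwk : k - (f (δ k₀ * k) / c₀) • k₂ + (f (δ k₂ * k) / c₀) • k₀ ∈ LinearMap.ker χ := by
      rw [LinearMap.mem_ker, map_add, map_sub, map_smul, map_smul, hχ, hχ, hχ, h00, h00, h20, ← hc₀']
      refine Prod.ext ?_ ?_ <;> simp [hc₀, hp]
    have e := hW _ hwk
    rw [map_add, map_sub, map_smul, map_smul, sub_add, sub_eq_zero] at e
    rw [e, hq, smul_mul_assoc, map_smul, smul_smul, smul_eq_mul, div_eq_mul_inv, div_eq_mul_inv,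
      mul_comm c₀⁻¹ (f (δ k₂ * k))]
  have hp0 : p ≠ 0 := hk₀
  let B' : Frame φ := ⟨p • B.a, p⁻¹ • B.b, B.c, by simp [B.aa], by simp [B.bb], by simp [B.ab, hp0],
    by simp [B.ac], by simp [B.bc], B.cc⟩
  refine ⟨B', q / p, fun t ht => hp0 ?_, fun g hg => ?_⟩
  · have e : q = t • p := by rw [Algebra.smul_def, ht, div_mul_cancel₀ q hp0]
    rw [hp]
    have := hδf k₀
    rw [e, smul_mul_assoc, map_smul, smul_smul, smul_eq_mul, mul_comm t, sub_self] at this
    exact this
  · have hqa : (q / p) • B'.a = q • B.a := by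
      show (q / p) • p • B.a = _
      rw [smul_smul, div_mul_cancel₀ q hp0]
    rw [hqa] at hg
    have hQ : Q (q • B.a) = 0 := h.quad_zero (by simp [B.aa])
    suffices e : g = m by rw [e]; exact hm
    refine Subtype.ext (LinearEquiv.ext fun x => ?_)
    rw [hg.2.2, hmx, hQ, hδf, h.polar_smul_left]
    dsimp only [B']
    rw [h.polar_smul_left]
    match_scalars <;> simp only [Algebra.smul_def, mul_one, map_neg, map_zero, map_mul, map_sub] <;> ring

/-- An element fixing a line pointwise and acting trivially on the next layer is a root element, unless there is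
a Siegel element. -/
theorem Set3.eq_root (h3 : finrank F K = 3) (B : Frame φ) {m : orthGroup Q} (hm : m ∈ M)
    (hL : ∀ k : K, m.1 (k • B.a) = k • B.a) (hW : ∀ k : K, m.1 (k • B.c) - k • B.c ∈ line F K B.a) :
    HasRoot φ M ∨ ∃ s, m = h.root B s := by
  classical
  refine or_iff_not_imp_left.2 fun hno => ⟨φ B.c (m.1 B.b) / φ B.c B.c, ?_⟩
  have hcc := B.cc
  have h2 := h.twoK
  have hba : φ B.b B.a = 1 := by rw [h.symm, B.ab]
  have hca : φ B.c B.a = 0 := by rw [h.symm, B.ac]
  set s := φ B.c (m.1 B.b) / φ B.c B.c with hs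
  set n := h.root B (-s) * m with hn
  have hnM : n ∈ M := mul_mem (h.root_mem B _) hm
  have hnL : ∀ k : K, n.1 (k • B.a) = k • B.a := fun k => by
    show (h.root B (-s)).1 (m.1 (k • B.a)) = _
    rw [hL, h.root_fix]
  let E : K →ₗ[F] K := (φ B.b).restrictScalars F ∘ₗ
    (n.1.toLinearMap ∘ₗ (LinearMap.toSpanSingleton K V B.c).restrictScalars F)
  have hE : ∀ k : K, E k = φ B.b (n.1 (k • B.c)) := fun k => rfl
  have hnc : ∀ k : K, n.1 (k • B.c) = k • B.c + E k • B.a := by
    intro k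
    obtain ⟨j, hj⟩ := mem_line.1 (hW k)
    have e : n.1 (k • B.c) = k • B.c + (j + s * (k * φ B.c B.c)) • B.a := by
      show (h.root B (-s)).1 (m.1 (k • B.c)) = _
      rw [← sub_add_cancel (m.1 (k • B.c)) (k • B.c), ← hj, map_add, h.root_fix, h.root_perp B _ (by simp [B.ac])]
      simp only [map_smul, smul_eq_mul]
      module
    rw [hE, e]
    simp [B.bc, hba]
  have hperp : ∀ x, φ B.a x = 0 → n.1 x = x + E (φ B.c x / φ B.c B.c) • B.a := by
    intro x hx
    conv_lhs => rw [h.decomp B x, hx]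
    conv_rhs => arg 1; rw [h.decomp B x, hx]
    rw [zero_smul, add_zero, map_add, hnL, hnc]
    abel
  have hfa : ∀ x, φ B.a (n.1 x) = φ B.a x := h.phi_of_fix B hnL
  have hcomm : ∀ t x, n.1 ((h.root B t).1 x) = (h.root B t).1 (n.1 x) := by
    intro t
    set z := (h.root B t * n)⁻¹ * (n * h.root B t) with hz
    have hz1 : z = 1 := by
      by_contra hne
      refine hno (h.root_of_fix_perp h3 B
        (mul_mem (inv_mem (mul_mem (h.root_mem B t) hnM)) (mul_mem hnM (h.root_mem B t))) (fun x hx => ?_) hne)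
      show ((h.root B t * n)⁻¹).1 ((n * h.root B t).1 x) = x
      refine (h.root B t * n).1.symm_apply_eq.2 ?_
      show n.1 ((h.root B t).1 x) = (h.root B t).1 (n.1 x)
      rw [h.root_perp B t hx, map_sub, hnL, hperp x hx, map_add, h.root_fix, h.root_perp B t hx]
      abel
    intro x
    rw [hz, inv_mul_eq_one] at hz1
    exact congrArg (fun g : orthGroup Q => g.1 x) hz1.symm
  have he : ∀ k t : K, E (k * t) = -(t * φ B.c (n.1 (k • B.b))) := by
    intro k t
    have e := congrArg (φ B.b) (hcomm t (k • B.b))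
    rw [h.root_apply, h.root_apply] at e
    simp only [map_add, map_smul, smul_eq_mul, B.ab, mul_one, h.symm B.c B.b, B.bc, mul_zero, hnc, hnL, hba, hfa,
      zero_add, add_zero, neg_zero, zero_sub] at e
    linear_combination e
  have hn1 : φ B.c (n.1 B.b) = 0 := by
    show φ B.c ((h.root B (-s)).1 (m.1 B.b)) = 0
    rw [h.root_apply]
    simp only [map_add, map_smul, smul_eq_mul, hca, mul_zero, add_zero, h.phi_of_fix B hL, B.ab, one_mul, hs]
    field_simp
    ring
  have hE0 : ∀ t, E t = 0 := fun t => by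
    have := he 1 t
    rwa [one_mul, one_smul, hn1, mul_zero, neg_zero] at this
  have hn0 : n = 1 := by
    by_contra hne
    exact hno (h.root_of_fix_perp h3 B hnM (fun x hx => by rw [hperp x hx, hE0, zero_smul, add_zero]) hne)
  rw [hn] at hn0
  rw [eq_inv_of_mul_eq_one_right hn0]
  refine inv_eq_of_mul_eq_one_right ?_
  rw [← h.root_add, neg_add_cancel, h.root_zero]

/-- The square of a dilation, on the frame. -/
theorem Set3.exists_dilation (B : Frame φ) {l : K} (hl : l ≠ 0) :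
    ∃ e ∈ M, (∀ (k : K) x, e.1 (k • x) = k • e.1 x) ∧ e.1 B.a = (l * l) • B.a ∧ e.1 B.c = B.c ∧
      e.1 B.b = (l * l)⁻¹ • B.b := by
  have hcc := B.cc
  have hba : φ B.b B.a = 1 := by rw [h.symm, B.ab]
  have hca : φ B.c B.a = 0 := by rw [h.symm, B.ac]
  have hcb : φ B.c B.b = 0 := by rw [h.symm, B.bc]
  let L : V →ₗ[K] V := (l • φ B.b).smulRight B.a + ((φ B.c B.c)⁻¹ • φ B.c).smulRight B.c +
    (l⁻¹ • φ B.a).smulRight B.b
  have hL : ∀ x, L x = (l * φ B.b x) • B.a + (φ B.c x / φ B.c B.c) • B.c + (l⁻¹ * φ B.a x) • B.b := fun x => by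
    simp [L, div_eq_inv_mul]
  have hiso : ∀ x x', φ (L x) (L x') = φ x x' := by
    intro x x'
    conv_rhs => rw [h.decomp B x, h.decomp B x']
    rw [hL, hL]
    simp [B.aa, B.bb, B.ab, B.ac, B.bc, hba, hca, hcb]
    field_simp
  have hinj : Function.Injective L := (injective_iff_map_eq_zero L).2 fun p hp =>
    h.nondeg p fun p' => by rw [← hiso, hp]; simp
  let s : V ≃ₗ[K] V := LinearEquiv.ofInjectiveEndo L hinj
  have hs : ∀ p, s p = L p := fun p => LinearEquiv.coe_ofInjectiveEndo L hinj ▸ rfl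
  obtain ⟨e, he, hes⟩ := h.sq s fun p p' => by rw [hs, hs, hiso]
  refine ⟨e, he, fun k x => by rw [hes, hes, map_smul, map_smul], ?_, ?_, ?_⟩
  · have hsa : s B.a = l • B.a := by rw [hs, hL]; simp [hba, hca, B.aa]
    rw [hes, hsa, map_smul, hsa, smul_smul]
  · have hsc : s B.c = B.c := by rw [hs, hL]; simp [B.ac, B.bc, hcc]
    rw [hes, hsc, hsc]
  · have hsb : s B.b = l⁻¹ • B.b := by rw [hs, hL]; simp [B.bb, B.ab, hcb]
    rw [hes, hsb, map_smul, hsb, smul_smul, mul_inv]

/-- An element of `M` preserving a singular line is semilinear, unless there is a Siegel element. -/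
theorem Set3.line_semilinear (h3 : finrank F K = 3) (B : Frame φ) {w : orthGroup Q} (hw : w ∈ M)
    (hwL : ∀ x ∈ line F K B.a, w.1 x ∈ line F K B.a) :
    HasRoot φ M ∨ ∃ σ : K →ₗ[F] K, σ 1 = 1 ∧ (∀ k l, σ (k * l) = σ k * σ l) ∧ (∀ k, σ k = 0 → k = 0) ∧
      ∀ (k : K) x, w.1 (k • x) = σ k • w.1 x := by
  classical
  refine or_iff_not_imp_left.2 fun hno => ?_
  have hcc := B.cc
  have h2 := h.twoK
  have hba : φ B.b B.a = 1 := by rw [h.symm, B.ab]
  have hca : φ B.c B.a = 0 := by rw [h.symm, B.ac]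
  have ha0 : B.a ≠ 0 := fun e => one_ne_zero (α := K) (by rw [← B.ab, e]; simp)
  have hwi : ∀ x ∈ line F K B.a, w.1.symm x ∈ line F K B.a := by
    intro x hx
    have hle : (line F K B.a).map w.1.toLinearMap ≤ line F K B.a := by rintro _ ⟨y, hy, rfl⟩; exact hwL y hy
    obtain ⟨y, hy, rfl⟩ := (Submodule.eq_of_le_of_finrank_le hle (LinearEquiv.finrank_map_eq w.1 _).ge).ge hx
    show w.1.symm (w.1 y) ∈ _
    rwa [w.1.symm_apply_apply]
  have hperp : ∀ x, φ B.a x = 0 → φ B.a (w.1 x) = 0 := fun x hx => h.phi_eq_zero fun k => by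
    obtain ⟨j, hj⟩ := mem_line.1 (hwi _ (smul_mem_line B.a k))
    rw [h.polar_smul_right, ← h.polar_smul_left, ← w.1.apply_symm_apply (k • B.a), polar_isom, ← hj,
      h.polar_smul_left, hx, mul_zero, map_zero]
  have hperp' : ∀ x, φ B.a x = 0 → φ B.a (w.1.symm x) = 0 := fun x hx => h.phi_eq_zero fun k => by
    obtain ⟨j, hj⟩ := mem_line.1 (hwL _ (smul_mem_line B.a k))
    rw [h.polar_smul_right, ← h.polar_smul_left, ← polar_isom w, w.1.apply_symm_apply, ← hj, h.polar_smul_left,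
      hx, mul_zero, map_zero]
  -- the action on the line
  let α : K →ₗ[F] K := (φ B.b).restrictScalars F ∘ₗ
    (w.1.toLinearMap ∘ₗ (LinearMap.toSpanSingleton K V B.a).restrictScalars F)
  have hα : ∀ k : K, w.1 (k • B.a) = α k • B.a := fun k => by
    obtain ⟨j, hj⟩ := mem_line.1 (hwL _ (smul_mem_line B.a k))
    have : α k = j := by show φ B.b (w.1 (k • B.a)) = j; rw [← hj]; simp [hba]
    rw [this, hj]
  have hα0 : ∀ k, α k = 0 → k = 0 := fun k hk => by
    have e := hα k
    rw [hk, zero_smul] at e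
    exact (smul_eq_zero.1 (w.1.injective (e.trans (map_zero w.1).symm))).resolve_right ha0
  have hΦ1 : φ B.c (w.1 B.c) ≠ 0 := fun e => hcc (by
    have h4 := hwi _ ((h.mem_line_iff B).2 ⟨hperp B.c B.ac, e⟩)
    rw [w.1.symm_apply_apply] at h4
    exact ((h.mem_line_iff B).1 h4).2)
  -- conjugates of root elements
  have hR : ∀ s, ∃ t, ∀ x, w.1 ((h.root B s).1 x) = (h.root B t).1 (w.1 x) := by
    intro s
    have hres := (h.eq_root h3 B (m := w * h.root B s * w⁻¹)
      (mul_mem (mul_mem hw (h.root_mem B s)) (inv_mem hw)) (fun k => ?_) (fun k => ?_)).resolve_left hno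
    · obtain ⟨t, ht⟩ := hres
      refine ⟨t, fun x => ?_⟩
      rw [← ht]
      show _ = w.1 ((h.root B s).1 (w.1.symm (w.1 x)))
      rw [w.1.symm_apply_apply]
    · show w.1 ((h.root B s).1 (w.1.symm (k • B.a))) = _
      obtain ⟨j, hj⟩ := mem_line.1 (hwi _ (smul_mem_line B.a k))
      rw [← hj, h.root_fix, hj, w.1.apply_symm_apply]
    · show w.1 ((h.root B s).1 (w.1.symm (k • B.c))) - _ ∈ _
      rw [h.root_perp B s (hperp' _ (by simp [B.ac])), map_sub, w.1.apply_symm_apply, sub_sub_cancel_left]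
      exact neg_mem (hwL _ (smul_mem_line B.a _))
  have hθ : ∀ s k : K, α (s * (k * φ B.c B.c)) * φ B.c (w.1 B.c) =
      α (s * φ B.c B.c) * φ B.c (w.1 (k • B.c)) := by
    intro s k
    obtain ⟨t, ht⟩ := hR s
    have key : ∀ j : K, α (s * (j * φ B.c B.c)) = t * φ B.c (w.1 (j • B.c)) := fun j => by
      have e := ht (j • B.c)
      rw [h.root_perp B s (by simp [B.ac]), h.root_perp B t (hperp _ (by simp [B.ac])), map_sub, hα] at e
      have e' := congrArg (φ B.b) (sub_right_inj.1 e)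
      simpa [hba] using e'
    have e1 := key 1
    rw [one_mul, one_smul] at e1
    rw [key k, e1]
    ring
  let σ : K →ₗ[F] K :=
    { toFun := fun k => φ B.c (w.1 (k • B.c)) / φ B.c (w.1 B.c)
      map_add' := fun k l => by rw [add_smul, map_add, map_add, add_div]
      map_smul' := fun c k => by
        rw [smul_assoc, map_smul, LinearMap.map_smul_of_tower, RingHom.id_apply, smul_div_assoc] }
  have hασ : ∀ j k : K, α (j * k) = α j * σ k := fun j k => by
    have e := hθ (j / φ B.c B.c) k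
    rw [show j / φ B.c B.c * (k * φ B.c B.c) = j * k by field_simp, div_mul_cancel₀ j hcc] at e
    show _ = α j * (_ / _)
    rw [← mul_div_assoc, eq_div_iff hΦ1, e]
  have hσ1 : σ 1 = 1 := by
    show φ B.c (w.1 ((1 : K) • B.c)) / φ B.c (w.1 B.c) = 1
    rw [one_smul, div_self hΦ1]
  have hα1 : α 1 ≠ 0 := fun e => one_ne_zero (hα0 1 e)
  have hσmul : ∀ k l, σ (k * l) = σ k * σ l := fun k l => by
    refine mul_left_cancel₀ hα1 ?_
    rw [← hασ, ← mul_assoc, hασ, hασ, mul_assoc]
  have hσ0 : ∀ k, σ k = 0 → k = 0 := fun k hk => hα0 k (by rw [← one_mul k, hασ, hk, mul_zero])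
  refine ⟨σ, hσ1, hσmul, hσ0, fun k => ?_⟩
  -- conjugates of dilations
  have hT : ∀ l : K, l ≠ 0 → ∃ e e' : orthGroup Q, (∀ (j : K) x, e.1 (j • x) = j • e.1 x) ∧
      e.1 B.a = (l * l) • B.a ∧ e.1 B.c = B.c ∧ e.1 B.b = (l * l)⁻¹ • B.b ∧
      (∀ (j : K) x, e'.1 (j • x) = j • e'.1 x) ∧ (∀ x, w.1 (e.1 x) = e'.1 (w.1 x)) ∧
      e'.1 B.a = σ (l * l) • B.a := by
    intro l hl
    obtain ⟨e, he, hek, hea, hec, heb⟩ := h.exists_dilation B hl
    have hσl : σ l ≠ 0 := fun e0 => hl (hσ0 l e0)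
    obtain ⟨d, hd, hdk, hda, hdc, -⟩ := h.exists_dilation B hσl
    have hdi : ∀ j : K, d.1.symm (j • B.a) = (j / (σ l * σ l)) • B.a := fun j => by
      rw [LinearEquiv.symm_apply_eq, hdk, hda, smul_smul, div_mul_cancel₀ j (mul_ne_zero hσl hσl)]
    have hdic : ∀ j : K, d.1.symm (j • B.c) = j • B.c := fun j => by
      rw [LinearEquiv.symm_apply_eq, hdk, hdc]
    have hconjL : ∀ j : K, w.1 (e.1 (w.1.symm (j • B.a))) = (σ (l * l) * j) • B.a := fun j => by
      obtain ⟨i, hi⟩ := mem_line.1 (hwi _ (smul_mem_line B.a j))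
      have hij : α i = j := by
        have e1 := hα i
        rw [hi, w.1.apply_symm_apply] at e1
        exact (smul_left_injective K ha0 e1).symm
      rw [← hi, hek, hea, smul_smul, hα, hασ, hij, mul_comm]
    have hres := (h.eq_root h3 B (m := d⁻¹ * (w * e * w⁻¹))
      (mul_mem (inv_mem hd) (mul_mem (mul_mem hw he) (inv_mem hw))) (fun j => ?_) (fun j => ?_)).resolve_left hno
    · obtain ⟨s, hs⟩ := hres
      rw [inv_mul_eq_iff_eq_mul] at hs
      refine ⟨e, w * e * w⁻¹, hek, hea, hec, heb, fun j x => ?_, fun x => ?_, ?_⟩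
      · rw [hs]
        show d.1 ((h.root B s).1 (j • x)) = j • d.1 ((h.root B s).1 x)
        rw [h.root_smul, hdk]
      · show _ = w.1 (e.1 (w.1.symm (w.1 x)))
        rw [w.1.symm_apply_apply]
      · have e1 := hconjL 1
        rw [one_smul, mul_one] at e1
        exact e1
    · show d.1.symm (w.1 (e.1 (w.1.symm (j • B.a)))) = _
      rw [hconjL, hdi, hσmul, mul_div_cancel_left₀ j (mul_ne_zero hσl hσl)]
    · show d.1.symm (w.1 (e.1 (w.1.symm (j • B.c)))) - _ ∈ _
      have hx0 : φ B.a (w.1.symm (j • B.c)) = 0 := hperp' _ (by simp [B.ac])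
      set x := w.1.symm (j • B.c) with hx
      have hex : e.1 x - x ∈ line F K B.a := by
        rw [h.decomp B x, hx0, zero_smul, add_zero, map_add, hek, hek, hea, hec, add_sub_add_right_eq_sub,
          smul_smul, ← sub_smul]
        exact smul_mem_line _ _
      obtain ⟨i, hi⟩ := mem_line.1 (hwL _ hex)
      have hwe : w.1 (e.1 x) = i • B.a + j • B.c := by
        rw [hi, map_sub, hx, w.1.apply_symm_apply, sub_add_cancel]
      rw [hwe, map_add, hdi, hdic, add_sub_cancel_right]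
      exact smul_mem_line _ _
  -- the difference with the semilinear map
  let D : V →ₗ[F] V :=
    { toFun := fun x => w.1 (k • x) - σ k • w.1 x
      map_add' := fun x y => by rw [smul_add, map_add, map_add, smul_add]; abel
      map_smul' := fun c x => by
        rw [RingHom.id_apply, smul_comm k c x, w.1.map_smul, w.1.map_smul, smul_comm (σ k) c, smul_sub] }
  have hequiv : ∀ {e e' : orthGroup Q}, (∀ (j : K) x, e.1 (j • x) = j • e.1 x) →
      (∀ (j : K) x, e'.1 (j • x) = j • e'.1 x) → (∀ x, w.1 (e.1 x) = e'.1 (w.1 x)) →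
      ∀ x, D (e.1 x) = e'.1 (D x) := by
    intro e e' hek he'k hc x
    show w.1 (k • e.1 x) - σ k • w.1 (e.1 x) = e'.1 (w.1 (k • x) - σ k • w.1 x)
    rw [← hek, hc, hc, map_sub, he'k]
  have hDL : ∀ j : K, D (j • B.a) = 0 := fun j => by
    show w.1 (k • j • B.a) - σ k • w.1 (j • B.a) = 0
    rw [smul_smul, hα, hα, mul_comm k, hασ, smul_smul, mul_comm, sub_self]
  obtain ⟨t₁, ht₁⟩ := hR 1
  have ht₁0 : t₁ ≠ 0 := by
    rintro rfl
    have e := ht₁ B.c
    rw [h.root_zero, show ((1 : orthGroup Q).1 (w.1 B.c)) = w.1 B.c from rfl, w.1.injective.eq_iff,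
      h.root_perp B 1 B.ac, sub_eq_self, one_mul, smul_eq_zero] at e
    exact e.elim hcc ha0
  have hfixD : ∀ y, (h.root B t₁).1 y = y → y ∈ line F K B.a := by
    intro y hy
    have ec := congrArg (φ B.c) hy
    rw [h.root_apply] at ec
    simp only [map_add, map_smul, smul_eq_mul, hca, mul_zero, add_zero, add_eq_left, mul_eq_zero] at ec
    have hya : φ B.a y = 0 := (ec.resolve_right hcc).resolve_right ht₁0
    rw [h.root_perp B t₁ hya, sub_eq_self, smul_eq_zero, mul_eq_zero] at hy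
    exact (h.mem_line_iff B).2 ⟨hya, (hy.resolve_right ha0).resolve_left ht₁0⟩
  obtain ⟨z₀, hz₀⟩ : ∃ z : K, ∀ c : F, algebraMap F K c ≠ z := by
    by_contra hall
    push Not at hall
    have e : (F ∙ (1 : K)) = ⊤ := eq_top_iff.2 fun z _ => by
      obtain ⟨c, rfl⟩ := hall z
      exact Submodule.mem_span_singleton.2 ⟨c, (Algebra.algebraMap_eq_smul_one c).symm⟩
    have e1 := finrank_span_singleton (K := F) (one_ne_zero : (1 : K) ≠ 0)
    rw [e, finrank_top, h3] at e1
    omega
  have hDc : ∀ j : K, D (j • B.c) = 0 := by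
    intro j
    have e1 := hequiv (h.root_smul B 1) (h.root_smul B t₁) ht₁ (j • B.c)
    rw [h.root_perp B 1 (by simp [B.ac]), map_sub, hDL, sub_zero] at e1
    obtain ⟨i, hi⟩ := mem_line.1 (hfixD _ e1.symm)
    obtain ⟨e, e', hek, -, hec, -, he'k, hc, he'a⟩ := hT z₀ fun e0 => hz₀ 0 (by rw [map_zero, e0])
    have e2 := hequiv hek he'k hc (j • B.c)
    rw [hek, hec, ← hi, he'k, he'a, smul_smul] at e2
    have e3 : i * (σ (z₀ * z₀) - 1) = 0 := by
      rw [mul_sub, mul_one, sub_eq_zero]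
      exact (smul_left_injective K ha0 e2).symm
    rw [← hi]
    rcases mul_eq_zero.1 e3 with e4 | e4
    · rw [e4, zero_smul]
    · exfalso
      rw [sub_eq_zero, ← hσ1] at e4
      have e5 : z₀ * z₀ - 1 = 0 := hσ0 _ (by rw [map_sub, e4, sub_self])
      obtain ⟨c, hc'⟩ := h.quad_mem (x := z₀) (s := 0) (t := 1)
        (by rw [zero_smul, zero_add, one_smul]; linear_combination e5)
      exact hz₀ c hc'
  have hDb : ∀ j : K, D (j • B.b) = 0 := by
    have hl : ∀ j : K, ∃ i : K, D (j • B.b) = i • B.a := fun j => by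
      have e1 := hequiv (h.root_smul B 1) (h.root_smul B t₁) ht₁ (j • B.b)
      rw [h.root_apply B 1, map_add, map_add, hDc, hDL, add_zero, add_zero] at e1
      obtain ⟨i, hi⟩ := mem_line.1 (hfixD _ e1.symm)
      exact ⟨i, hi.symm⟩
    choose G hG using hl
    have hscale : ∀ u j : K, u ≠ 0 → IsSquare u → G (u * j) * σ u = G j := by
      rintro u j hu ⟨l, rfl⟩
      have hl0 : l ≠ 0 := left_ne_zero_of_mul hu
      obtain ⟨e, e', hek, -, -, heb, he'k, hc, he'a⟩ := hT l hl0
      have e2 := hequiv hek he'k hc ((l * l * j) • B.b)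
      rw [hek, heb, smul_smul, show l * l * j * (l * l)⁻¹ = j by field_simp, hG, hG, he'k, he'a, smul_smul] at e2
      exact (smul_left_injective K ha0 e2).symm
    intro j
    rw [hG]
    by_contra hne
    have hGj : G j ≠ 0 := fun e0 => hne (by rw [e0, zero_smul])
    have hs0 : z₀ ≠ 0 := fun e0 => hz₀ 0 (by rw [map_zero, e0])
    set y := (z₀ - z₀⁻¹) / 2 with hy
    set z := (z₀ + z₀⁻¹) / 2 with hz
    have hyz : y * y + 1 = z * z := by rw [hy, hz]; field_simp; ring
    have hyF : ∀ c : F, algebraMap F K c ≠ y * y := by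
      intro c hc
      obtain ⟨d, hd⟩ := h.quad_mem (x := z₀ * z₀) (s := 4 * c + 2) (t := -1) (by
        rw [Algebra.smul_def, Algebra.smul_def, map_add, map_mul, hc, map_neg, map_one, map_ofNat, map_ofNat, hy]
        field_simp
        ring)
      obtain ⟨d', hd'⟩ := h.quad_mem (x := z₀) (s := 0) (t := d)
        (by rw [zero_smul, zero_add, Algebra.smul_def, hd, mul_one])
      exact hz₀ d' hd'
    have hy0 : y * y ≠ 0 := fun e0 => hyF 0 (by rw [map_zero, e0])
    have hz0 : z * z ≠ 0 := fun e0 => hyF (-1) (by rw [map_neg, map_one]; linear_combination -hyz - e0)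
    have e1 := hscale _ j hy0 ⟨y, rfl⟩
    have e2 := hscale _ j hz0 ⟨z, rfl⟩
    have e3 : G (z * z * j) = G (y * y * j) + G j := by
      refine smul_left_injective K ha0 ?_
      show G (z * z * j) • B.a = (G (y * y * j) + G j) • B.a
      rw [add_smul, ← hG, ← hG, ← hG, ← map_add, ← hyz, add_mul, one_mul, add_smul]
    rw [← hyz, map_add, hσ1] at e2
    rw [← hyz] at e3
    have e4 : G j * (σ (y * y) * σ (y * y) + σ (y * y) + 1) = 0 := by
      linear_combination σ (y * y) * e2 - (σ (y * y) + 1) * e1 - σ (y * y) * (σ (y * y) + 1) * e3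
    have e5 := (mul_eq_zero.1 e4).resolve_left hGj
    rw [← hσmul, ← hσ1, ← map_add, ← map_add] at e5
    obtain ⟨c, hc⟩ := h.quad_mem (x := y * y) (s := -1) (t := -1) (by
      rw [neg_smul, one_smul, neg_smul, one_smul]
      linear_combination hσ0 _ e5)
    exact hyF c hc
  intro x
  have e : D x = 0 := by rw [h.decomp B x, map_add, map_add, hDL, hDc, hDb, add_zero, add_zero]
  exact sub_eq_zero.1 e

/-- A semilinear element moving some point has a fixed space normalised by an involution with two eigenvalues. -/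
theorem Set3.exists_fixed_involution (h3 : finrank F K = 3) [Finite F] {v : orthGroup Q} {σ : K →ₗ[F] K}
    (hσ1 : σ 1 = 1) (hmul : ∀ k l, σ (k * l) = σ k * σ l) (hσ0 : ∀ k, σ k = 0 → k = 0)
    (hv : ∀ (k : K) x, v.1 (k • x) = σ k • v.1 x) (hne : ∃ k, σ k ≠ k) {S : Submodule F V}
    (hS : ∀ x, x ∈ S ↔ v.1 x = x) (hdim : finrank F S = 3) :
    ∃ e ∈ M, (∀ x ∈ S, e.1 x ∈ S) ∧ ∃ p ∈ S, ∃ q ∈ S, p ≠ 0 ∧ q ≠ 0 ∧ e.1 p = p ∧ e.1 q = -q := by
  classical
  haveI : Fintype F := Fintype.ofFinite F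
  have hfixF : ∀ m, σ m = m → ∃ c : F, algebraMap F K c = m := fun m hm => by
    by_contra hno
    push Not at hno
    obtain ⟨k, hk⟩ := hne
    exact hk (eq_id_of_fixed h.prime σ hmul hσ1 hm hno k)
  let b := Module.finBasisOfFinrankEq F S hdim
  have hind : LinearIndependent K fun i => (b i : V) := by
    rw [linearIndependent_iff']
    intro s
    induction s using Finset.induction_on with
    | empty => simp
    | @insert a s has ih =>
      intro g hg
      have key : g a = 0 := by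
        by_contra hga
        set g' : Fin 3 → K := fun i => g i / g a with hg'
        have hg'a : g' a = 1 := div_self hga
        have e1 : ∑ i ∈ insert a s, g' i • (b i : V) = 0 := by
          have := congrArg (fun x => (g a)⁻¹ • x) hg
          simpa [Finset.smul_sum, smul_smul, hg', div_eq_inv_mul] using this
        have e2 : ∑ i ∈ insert a s, σ (g' i) • (b i : V) = 0 := by
          have := congrArg v.1 e1
          simp only [map_sum, map_zero, hv, (hS _).1 (b _).2] at this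
          exact this
        have e3 : ∑ i ∈ s, (σ (g' i) - g' i) • (b i : V) = 0 := by
          have e1' := e1
          rw [Finset.sum_insert has, hg'a, one_smul] at e1'
          rw [Finset.sum_insert has, hg'a, hσ1, one_smul] at e2
          simp only [sub_smul]
          rw [Finset.sum_sub_distrib, sub_eq_zero]
          exact add_left_cancel (e2.trans e1'.symm)
        have hF' : ∀ i ∈ insert a s, ∃ c : F, algebraMap F K c = g' i := by
          intro i hi
          rcases Finset.mem_insert.1 hi with rfl | hi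
          · exact ⟨1, by rw [map_one, hg'a]⟩
          · exact hfixF _ (sub_eq_zero.1 (ih _ e3 i hi))
        choose! c hc using hF'
        have e4 : ∑ i ∈ insert a s, c i • b i = 0 := Subtype.ext (by
          rw [Submodule.coe_sum, Submodule.coe_zero, ← e1]
          exact Finset.sum_congr rfl fun i hi => by rw [Submodule.coe_smul, ← hc i hi, algebraMap_smul])
        have e5 := linearIndependent_iff'.1 b.linearIndependent _ c e4 a (Finset.mem_insert_self a s)
        have e6 := hc a (Finset.mem_insert_self a s)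
        rw [e5, map_zero, hg'a] at e6
        exact zero_ne_one e6
      intro i hi
      rcases Finset.mem_insert.1 hi with rfl | hi
      · exact key
      · refine ih g ?_ i hi
        rw [Finset.sum_insert has, key, zero_smul, zero_add] at hg
        exact hg
  have hspan := hind.span_eq_top_of_card_eq_finrank (by simp [h.dim])
  have hrad : ∀ x, (∀ y ∈ S, φ x y = 0) → x = 0 := by
    intro x hx
    refine h.nondeg x fun y => ?_
    have hy : y ∈ Submodule.span K (Set.range fun i => (b i : V)) := hspan ▸ Submodule.mem_top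
    have hle : Submodule.span K (Set.range fun i => (b i : V)) ≤ LinearMap.ker (φ x) :=
      Submodule.span_le.2 (by rintro _ ⟨i, rfl⟩; exact hx _ (b i).2)
    exact hle hy
  -- the values lie in a line over `F`
  obtain ⟨κ, hκ0, hκ⟩ : ∃ κ : K, κ ≠ 0 ∧ ∀ x ∈ S, ∀ y ∈ S, ∃ c : F, φ x y = c • κ := by
    obtain ⟨i₀, hi₀⟩ : ∃ i, (b i : V) ≠ 0 := ⟨0, hind.ne_zero 0⟩
    obtain ⟨y₀, hy₀, hκ⟩ : ∃ y ∈ S, φ (b i₀ : V) y ≠ 0 := by
      by_contra hall
      push Not at hall
      exact hi₀ (hrad _ hall)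
    refine ⟨φ (b i₀ : V) y₀, hκ, fun x hx y hy => ?_⟩
    have hval : ∀ x' ∈ S, ∀ y' ∈ S, ∀ k, f (σ k * φ x' y') = f (k * φ x' y') := fun x' hx' y' hy' k => by
      rw [← h.polar_smul_left, ← h.polar_smul_left]
      conv_rhs => rw [← polar_isom v, hv, (hS x').1 hx', (hS y').1 hy']
    set κ := φ (b i₀ : V) y₀
    set μ := φ x y / κ with hμ
    have hμκ : φ x y = μ * κ := (div_mul_cancel₀ _ hκ).symm
    obtain ⟨c, hc⟩ := hfixF μ (by
      have hsurj : Function.Surjective σ := LinearMap.injective_iff_surjective.1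
        ((injective_iff_map_eq_zero σ).2 hσ0)
      refine (mul_right_cancel₀ hκ (h.phi_ext fun j => ?_)).symm
      obtain ⟨k, rfl⟩ := hsurj j
      have e1 := hval x hx y hy k
      have e2 := hval _ (b i₀).2 _ hy₀ (k * μ)
      rw [hμκ, ← mul_assoc, ← mul_assoc] at e1
      rw [hmul] at e2
      rw [← mul_assoc, ← mul_assoc, e1, e2])
    exact ⟨c, by rw [hμκ, Algebra.smul_def, hc]⟩
  -- an orthogonal basis
  have hfun : ∀ x ∈ S, ∀ W : Submodule F V, W ≤ S →
      finrank F W ≤ finrank F (W ⊓ LinearMap.ker ((φ x).restrictScalars F) : Submodule F V) + 1 := by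
    intro x hx W hW
    have h1 := (((φ x).restrictScalars F).domRestrict W).finrank_range_add_finrank_ker
    have h2 : finrank F (LinearMap.range (((φ x).restrictScalars F).domRestrict W)) ≤ 1 := by
      refine (Submodule.finrank_mono (t := F ∙ κ) ?_).trans (finrank_span_singleton hκ0).le
      rintro _ ⟨⟨y, hy⟩, rfl⟩
      obtain ⟨c, hc⟩ := hκ x hx y (hW hy)
      exact Submodule.mem_span_singleton.2 ⟨c, hc.symm⟩
    have h4 : finrank F (LinearMap.ker (((φ x).restrictScalars F).domRestrict W)) ≤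
        finrank F (W ⊓ LinearMap.ker ((φ x).restrictScalars F) : Submodule F V) := by
      rw [← LinearEquiv.finrank_eq (Submodule.equivMapOfInjective W.subtype W.injective_subtype _).symm]
      refine Submodule.finrank_mono ?_
      rintro _ ⟨u, hu, rfl⟩
      exact ⟨u.2, hu⟩
    omega
  have hiso0 : ∀ W : Submodule F V, (∀ x ∈ W, φ x x = 0) → ∀ x ∈ W, ∀ y ∈ W, φ x y = 0 := by
    intro W hW x hx y hy
    have e := hW _ (W.add_mem hx hy)
    simp only [map_add, LinearMap.add_apply, hW x hx, hW y hy, h.symm y x, add_zero, zero_add] at e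
    exact (mul_eq_zero.1 ((two_mul _).trans e)).resolve_left h.twoK
  obtain ⟨x₀, hx₀, hx₀0⟩ : ∃ x ∈ S, φ x x ≠ 0 := by
    by_contra hall
    push Not at hall
    exact hind.ne_zero 0 (hrad _ (hiso0 S hall _ (b 0).2))
  set S₁ := S ⊓ LinearMap.ker ((φ x₀).restrictScalars F) with hS₁
  have hS₁2 : 2 ≤ finrank F S₁ := by have := hfun x₀ hx₀ S le_rfl; rw [hdim, ← hS₁] at this; omega
  have hsplit : ∀ y ∈ S, ∃ c : F, y - c • x₀ ∈ S₁ := fun y hy => by
    obtain ⟨c, hc⟩ := hκ x₀ hx₀ y hy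
    obtain ⟨d, hd⟩ := hκ x₀ hx₀ x₀ hx₀
    have hd0 : d ≠ 0 := fun e => hx₀0 (by rw [hd, e, zero_smul])
    refine ⟨c / d, S.sub_mem hy (S.smul_mem _ hx₀), ?_⟩
    show φ x₀ (y - (c / d) • x₀) = 0
    rw [map_sub, LinearMap.map_smul_of_tower, hc, hd, smul_smul, div_mul_cancel₀ _ hd0, sub_self]
  obtain ⟨x₁, hx₁, hx₁0⟩ : ∃ x ∈ S₁, φ x x ≠ 0 := by
    by_contra hall
    push Not at hall
    obtain ⟨y, hy, hy0⟩ := Submodule.exists_mem_ne_zero_of_ne_bot (p := S₁) fun e => by
      rw [e, finrank_bot] at hS₁2; omega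
    refine hy0 (hrad y fun z hz => ?_)
    obtain ⟨c, hc⟩ := hsplit z hz
    rw [← sub_add_cancel z (c • x₀), map_add, hiso0 S₁ hall y hy _ hc, LinearMap.map_smul_of_tower, h.symm y x₀,
      show φ x₀ y = 0 from hy.2, smul_zero, zero_add]
  set S₂ := S₁ ⊓ LinearMap.ker ((φ x₁).restrictScalars F) with hS₂
  obtain ⟨x₂, hx₂, hx₂0⟩ : ∃ x ∈ S₂, x ≠ 0 := Submodule.exists_mem_ne_zero_of_ne_bot fun e => by
    have := hfun x₁ hx₁.1 S₁ inf_le_left
    rw [← hS₂, e, finrank_bot] at this
    omega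
  have h01 : φ x₀ x₁ = 0 := hx₁.2
  have h02 : φ x₀ x₂ = 0 := hx₂.1.2
  have h12 : φ x₁ x₂ = 0 := hx₂.2
  have h22 : φ x₂ x₂ ≠ 0 := fun e => hx₂0 (by
    refine hrad x₂ fun z hz => ?_
    obtain ⟨c, hc⟩ := hsplit z hz
    obtain ⟨d, hd'⟩ := hκ x₁ hx₁.1 _ hc.1
    obtain ⟨d₁, hd₁⟩ := hκ x₁ hx₁.1 x₁ hx₁.1
    have hd₁0 : d₁ ≠ 0 := fun e0 => hx₁0 (by rw [hd₁, e0, zero_smul])
    set z' := (z - c • x₀) - (d / d₁) • x₁ with hz'
    have hz'S : z' ∈ S₂ := ⟨S₁.sub_mem hc (S₁.smul_mem _ hx₁), by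
      show φ x₁ z' = 0
      rw [hz', map_sub, LinearMap.map_smul_of_tower, hd', hd₁, smul_smul, div_mul_cancel₀ _ hd₁0, sub_self]⟩
    have hone : finrank F S₂ ≤ 1 := by
      have hle : S₂ ⊔ (F ∙ x₀ ⊔ F ∙ x₁) ≤ S := sup_le (fun y hy => hy.1.1) (sup_le
        ((Submodule.span_singleton_le_iff_mem _ _).2 hx₀) ((Submodule.span_singleton_le_iff_mem _ _).2 hx₁.1))
      have hint : S₂ ⊓ (F ∙ x₀ ⊔ F ∙ x₁) = ⊥ := by
        refine (Submodule.eq_bot_iff _).2 ?_
        rintro y ⟨hy, hy'⟩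
        obtain ⟨p, hp, r, hr, rfl⟩ := Submodule.mem_sup.1 hy'
        obtain ⟨i, rfl⟩ := Submodule.mem_span_singleton.1 hp
        obtain ⟨j, rfl⟩ := Submodule.mem_span_singleton.1 hr
        have e0 : φ x₀ (i • x₀ + j • x₁) = 0 := hy.1.2
        have e1 : φ x₁ (i • x₀ + j • x₁) = 0 := hy.2
        simp only [map_add, LinearMap.map_smul_of_tower, h01, h.symm x₁ x₀, smul_zero, add_zero, zero_add,
          smul_eq_zero, hx₀0, hx₁0, or_false] at e0 e1
        rw [e0, e1, zero_smul, zero_smul, add_zero]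
      have h2' : 2 ≤ finrank F (F ∙ x₀ ⊔ F ∙ x₁ : Submodule F V) := by
        have hi : (F ∙ x₀) ⊓ (F ∙ x₁) = ⊥ := (Submodule.eq_bot_iff _).2 fun y hy => by
          obtain ⟨i, rfl⟩ := Submodule.mem_span_singleton.1 hy.1
          obtain ⟨j, hj⟩ := Submodule.mem_span_singleton.1 hy.2
          have e := congrArg (φ x₀) hj
          simp only [LinearMap.map_smul_of_tower, h01, smul_zero] at e
          rcases smul_eq_zero.1 e.symm with e' | e'
          · rw [e', zero_smul]
          · exact absurd e' hx₀0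
        have e := Submodule.finrank_sup_add_finrank_inf_eq (F ∙ x₀) (F ∙ x₁)
        rw [hi, finrank_bot, finrank_span_singleton (fun e0 => hx₀0 (by rw [e0, map_zero])),
          finrank_span_singleton (fun e0 => hx₁0 (by rw [e0, map_zero]))] at e
        omega
      have e := Submodule.finrank_sup_add_finrank_inf_eq S₂ (F ∙ x₀ ⊔ F ∙ x₁)
      rw [hint, finrank_bot] at e
      have := Submodule.finrank_mono hle
      omega
    have hS₂eq : S₂ = F ∙ x₂ := (Submodule.eq_of_le_of_finrank_le ((Submodule.span_singleton_le_iff_mem _ _).2 hx₂)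
      (by rw [finrank_span_singleton hx₂0]; exact hone)).symm
    obtain ⟨i, hi⟩ := Submodule.mem_span_singleton.1 (hS₂eq ▸ hz'S)
    have ez : z = i • x₂ + (d / d₁) • x₁ + c • x₀ := by rw [hi, hz']; abel
    rw [ez]
    simp [LinearMap.map_smul_of_tower, e, h.symm x₂ x₁, h12, h.symm x₂ x₀, h02])
  -- two values of the same class
  obtain ⟨c₀, hc₀⟩ := hκ x₀ hx₀ x₀ hx₀
  obtain ⟨c₁, hc₁⟩ := hκ x₁ hx₁.1 x₁ hx₁.1
  obtain ⟨c₂, hc₂⟩ := hκ x₂ hx₂.1.1 x₂ hx₂.1.1
  obtain ⟨u, z, v', hu, hz, hv', huu, hzz, hvv, hzu, hzv, huv, x, hx⟩ :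
      ∃ u z v', u ∈ S ∧ z ∈ S ∧ v' ∈ S ∧ φ u u ≠ 0 ∧ φ z z ≠ 0 ∧ φ v' v' ≠ 0 ∧ φ z u = 0 ∧ φ z v' = 0 ∧
        φ u v' = 0 ∧ ∃ x : K, x * x = φ z z * φ v' v' := by
    have hsq : ∀ {p r : F}, IsSquare (p * r) → ∃ x : K, x * x = (p • κ) * (r • κ) := fun {p r} ⟨s, hs⟩ =>
      ⟨s • κ, by
        have e := congrArg (algebraMap F K) hs
        rw [map_mul, map_mul] at e
        simp only [Algebra.smul_def]
        linear_combination -(κ * κ) * e⟩
    have hmul2 : ∀ {p r : F}, ¬ IsSquare p → ¬ IsSquare r → IsSquare (p * r) := fun {p r} hp hr => by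
      refine (quadraticChar_one_iff_isSquare (mul_ne_zero (fun e0 => hp (by rw [e0]; exact IsSquare.zero))
        (fun e0 => hr (by rw [e0]; exact IsSquare.zero)))).1 ?_
      rw [map_mul, quadraticChar_neg_one_iff_not_isSquare.2 hp, quadraticChar_neg_one_iff_not_isSquare.2 hr]
      norm_num
    have h10 : φ x₁ x₀ = 0 := by rw [h.symm, h01]
    have h20 : φ x₂ x₀ = 0 := by rw [h.symm, h02]
    have h21 : φ x₂ x₁ = 0 := by rw [h.symm, h12]
    by_cases s01 : IsSquare (c₀ * c₁)
    · exact ⟨x₂, x₀, x₁, hx₂.1.1, hx₀, hx₁.1, h22, hx₀0, hx₁0, h02, h01, h21, by rw [hc₀, hc₁]; exact hsq s01⟩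
    by_cases s02 : IsSquare (c₀ * c₂)
    · exact ⟨x₁, x₀, x₂, hx₁.1, hx₀, hx₂.1.1, hx₁0, hx₀0, h22, h01, h02, h12, by rw [hc₀, hc₂]; exact hsq s02⟩
    have hs12 : IsSquare (c₁ * c₂) := by
      obtain ⟨s, hs⟩ := hmul2 s01 s02
      have hc₀0 : c₀ ≠ 0 := fun e0 => hx₀0 (by rw [hc₀, e0, zero_smul])
      exact ⟨s / c₀, by field_simp; linear_combination hs⟩
    exact ⟨x₀, x₁, x₂, hx₀, hx₁.1, hx₂.1.1, hx₀0, hx₁0, h22, h10, h12, h02, by rw [hc₁, hc₂]; exact hsq hs12⟩
  have hx0 : x ≠ 0 := fun e0 => mul_ne_zero hzz hvv (by rw [← hx, e0, mul_zero])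
  obtain ⟨e, he, hee⟩ := h.exists_invol hzz hzu hzv huv huu hvv (x := x) (y := 0)
    (by linear_combination (φ u u) * hx)
  have hee' : ∀ p, e.1 p = (2 * (φ u p / φ u u)) • u - p := fun p => by
    rw [hee]
    simp only [zero_smul, add_zero, map_smul, LinearMap.smul_apply, smul_eq_mul, smul_smul]
    congr 2
    field_simp
  refine ⟨e, he, fun p hp => ?_, u, hu, z, hz, fun e0 => huu (by rw [e0, map_zero]),
    fun e0 => hzz (by rw [e0, map_zero]), ?_, ?_⟩
  · rw [hee']
    obtain ⟨c, hc⟩ := hκ u hu p hp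
    obtain ⟨d, hd⟩ := hκ u hu u hu
    have e1 : 2 * (φ u p / φ u u) = algebraMap F K (2 * (c / d)) := by
      rw [hc, hd, Algebra.smul_def, Algebra.smul_def, map_mul, map_div₀, map_ofNat, mul_div_mul_right _ _ hκ0]
    rw [e1, algebraMap_smul]
    exact S.sub_mem (S.smul_mem _ hu) hp
  · rw [hee', div_self huu, mul_one, two_smul, add_sub_cancel_right]
  · rw [hee', h.symm u z, hzu, zero_div, mul_zero, zero_smul, zero_sub]

/-- An element of `M` with both eigenvalues on a singular line. -/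
theorem Set3.root_of_eigen (h3 : finrank F K = 3) (B : Frame φ) {w : orthGroup Q} (hw : w ∈ M)
    (hwL : ∀ x ∈ line F K B.a, w.1 x ∈ line F K B.a) {p q : V} (hp : p ∈ line F K B.a) (hq : q ∈ line F K B.a)
    (hp0 : p ≠ 0) (hq0 : q ≠ 0) (hwp : w.1 p = p) (hwq : w.1 q = -q) : HasRoot φ M := by
  by_contra hno
  obtain ⟨σ, hσ1, hmul, -, hσw⟩ := (h.line_semilinear h3 B hw hwL).resolve_left hno
  rw [← line_eq_of_mem hp hp0] at hq
  obtain ⟨m, rfl⟩ := mem_line.1 hq
  rw [hσw, hwp, ← neg_smul] at hwq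
  have hm : σ m = -m := smul_left_injective K hp0 hwq
  have hm0 : m ≠ 0 := fun e => hq0 (by rw [e, zero_smul])
  have hne : σ m ≠ m := fun e => hm0 (by
    rw [hm] at e
    exact (mul_eq_zero.1 (show (2 : K) * m = 0 by linear_combination -e)).resolve_left h.twoK)
  obtain ⟨c, hc⟩ : ∃ c : F, algebraMap F K c = m * m := by
    by_contra hall
    push Not at hall
    exact hne (eq_id_of_fixed h.prime σ hmul hσ1 (by rw [hmul, hm, neg_mul_neg]) hall m)
  obtain ⟨d, hd⟩ := h.quad_mem (x := m) (s := 0) (t := c)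
    (by rw [zero_smul, zero_add, Algebra.smul_def, hc, mul_one])
  refine hne ?_
  rw [← hd, Algebra.algebraMap_eq_smul_one, map_smul, hσ1]

/-- An image of a singular line preserved by a root element fixing a point and moving another one. -/
theorem Set3.root_of_invariant (h3 : finrank F K = 3) [Finite F] {B : Frame φ} {t : K} {N : Submodule F V}
    (hN : Img φ M N) (hinv : ∀ x ∈ N, (h.root B t).1 x ∈ N) (ha : B.a ∈ N) {y : V} (hy : y ∈ N)
    (hyt : (h.root B t).1 y ≠ y) : HasRoot φ M := by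
  classical
  by_contra hno
  obtain ⟨g, hg, a₁, ha₁0, ha₁, rfl⟩ := id hN
  obtain ⟨B₁, rfl⟩ := h.exists_frame ha₁ ha₁0
  set u := h.root B t with hu
  set v := g⁻¹ * u * g with hvdef
  have hvM : v ∈ M := mul_mem (mul_mem (inv_mem hg) (h.root_mem B t)) hg
  have hvx : ∀ x, g.1 (v.1 x) = u.1 (g.1 x) := fun x => g.1.apply_symm_apply _
  have hvL : ∀ x ∈ line F K B₁.a, v.1 x ∈ line F K B₁.a := by
    intro x hx
    obtain ⟨z, hz, hze⟩ := hinv _ ⟨x, hx, rfl⟩
    have : z = v.1 x := g.1.injective (by rw [hvx]; exact hze)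
    exact this ▸ hz
  obtain ⟨σ, hσ1, hmul, hσ0, hσv⟩ := (h.line_semilinear h3 B₁ hvM hvL).resolve_left hno
  obtain ⟨p, hp, hpa⟩ := ha
  have hp0 : p ≠ 0 := fun e => by
    rw [e, map_zero] at hpa
    exact one_ne_zero (α := K) (by rw [← B.ab, ← hpa]; simp)
  have hvp : v.1 p = p := g.1.injective (by
    rw [hvx]
    show u.1 (g.1 p) = g.1 p
    rw [show g.1 p = B.a from hpa]
    simpa using h.root_fix B t 1)
  have hne : ∃ k, σ k ≠ k := by
    by_contra hall
    push Not at hall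
    obtain ⟨z, hz, rfl⟩ := hy
    rw [← line_eq_of_mem hp hp0] at hz
    obtain ⟨k, rfl⟩ := mem_line.1 hz
    refine hyt ?_
    show u.1 (g.1 (k • p)) = g.1 (k • p)
    rw [← hvx, hσv, hall, hvp]
  have ht0 : t ≠ 0 := fun e => hyt (by rw [hu, e, h.root_zero]; rfl)
  set S := (line F K B.a).map (g.1.symm : V ≃ₗ[F] V).toLinearMap with hS
  have hfix : ∀ x, x ∈ S ↔ v.1 x = x := by
    intro x
    constructor
    · rintro ⟨z, hz, rfl⟩
      obtain ⟨k, rfl⟩ := mem_line.1 hz
      refine g.1.injective ?_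
      rw [hvx]
      show u.1 (g.1 (g.1.symm (k • B.a))) = g.1 (g.1.symm (k • B.a))
      rw [g.1.apply_symm_apply, hu, h.root_fix]
    · intro hx
      refine ⟨g.1 x, ?_, g.1.symm_apply_apply x⟩
      have e : u.1 (g.1 x) = g.1 x := by rw [← hvx, hx]
      have ec := congrArg (φ B.c) e
      rw [hu, h.root_apply] at ec
      simp only [map_add, map_smul, smul_eq_mul, h.symm B.c B.a, B.ac, mul_zero, add_zero, add_eq_left,
        mul_eq_zero] at ec
      have hxa : φ B.a (g.1 x) = 0 := (ec.resolve_right B.cc).resolve_right ht0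
      rw [hu, h.root_perp B t hxa, sub_eq_self, smul_eq_zero, mul_eq_zero] at e
      exact (h.mem_line_iff B).2 ⟨hxa, (e.resolve_right fun e0 => one_ne_zero (α := K)
        (by rw [← B.ab, e0]; simp)).resolve_left ht0⟩
  obtain ⟨e, he, heS, p', hp', q', hq', hp'0, hq'0, hep, heq⟩ := h.exists_fixed_involution h3 hσ1 hmul hσ0 hσv
    hne hfix (by
      rw [hS, LinearEquiv.finrank_map_eq, finrank_line (fun e => one_ne_zero (α := K) (by rw [← B.ab, e]; simp)), h3])
  have hback : ∀ {x}, x ∈ S → g.1 x ∈ line F K B.a := fun {x} hx => by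
    obtain ⟨z, hz, rfl⟩ := hx
    show g.1 (g.1.symm z) ∈ _
    rwa [g.1.apply_symm_apply]
  refine hno (h.root_of_eigen h3 B (w := g * e * g⁻¹) (mul_mem (mul_mem hg he) (inv_mem hg)) (fun x hx => ?_)
    (hback hp') (hback hq') ((map_ne_zero_iff _ g.1.injective).2 hp'0) ((map_ne_zero_iff _ g.1.injective).2 hq'0)
    ?_ ?_)
  · exact hback (heS _ ⟨x, hx, rfl⟩)
  · show g.1 (e.1 (g.1.symm (g.1 p'))) = _
    rw [g.1.symm_apply_apply, hep]
  · show g.1 (e.1 (g.1.symm (g.1 q'))) = _
    rw [g.1.symm_apply_apply, heq, map_neg]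

end CfsgLib.Classical.FieldExtOrth3
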