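import Cfsg.Agent.Lib.Classical.FieldExtOrth.Matrix
import Cfsg.Agent.Lib.Classical.FieldExtOrth3.Axis

/-!
# The orthogonal group of a three-dimensional space over an extension field is maximal
-/

set_option autoImplicit false
set_option linter.unusedSectionVars false
set_option backward.isDefEq.respectTransparency false

namespace CfsgLib.Classical.FieldExtOrth3

open Module QuadraticMap CfsgLib.Orth CfsgLib.Classical CfsgLib.Classical.FieldExtMax
open scoped MatrixGroups

variable {F : Type*} [Field F] [Fintype F] {ι : Type} [Fintype ι] [DecidableEq ι] {Qf : (ι → F) → F} {r : ℕ}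
  {K : Subalgebra F (Matrix ι ι F)}

theorem polar_smul_smul3 {F K V : Type*} [Field F] [Field K] [Algebra F K] [AddCommGroup V] [Module F V]
    [Module K V] [IsScalarTower F K V] [FiniteDimensional F K] [FiniteDimensional K V] [FiniteDimensional F V]
    {Q : QuadraticForm F V} {φ : V →ₗ[K] V →ₗ[K] K} {f : K →ₗ[F] F} {M : Subgroup (orthGroup Q)}
    (h : Set3 Q φ f M) (x y : V) (k l : K) : polar Q (k • x) (l • y) = f (k * l * φ x y) := by
  rw [h.eq]; simp [mul_assoc, mul_left_comm]

theorem omega_isMaximal (hQ : Cfsg.Geo.IsNondegenerateQuadraticForm Qf) (h2 : (2 : F) ≠ 0)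
    (hr : r.Prime) (hK : Cfsg.Geo.IsFieldSubalgebra r K) (hsa : Cfsg.Geo.IsSelfAdjointFor (QuadraticMap.polar Qf) K)
    (h5 : 3 ≤ r) (hm : Fintype.card ι = 3 * r) :
    Cfsg.Geo.IsMaximalIn (Cfsg.Geo.omegaGL Qf) (Cfsg.Geo.subalgebraNormalizer K ⊓ Cfsg.Geo.omegaGL Qf) := by
  classical
  obtain ⟨Q, hQf, hnd⟩ := exists_quadOf hQ
  haveI : Nonempty ι := Fintype.card_pos_iff.1 (by have := hr.two_le; omega)
  have hfield : IsField K := ⟨⟨0, 1, zero_ne_one⟩, fun a b => Subtype.ext (hK.comm _ a.2 _ b.2),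
    fun {a} ha => by
      obtain ⟨y, hy, h⟩ := hK.inv a.1 a.2 fun h => ha (Subtype.ext h)
      exact ⟨⟨y, hy⟩, Subtype.ext h⟩⟩
  letI : Field K := hfield.toField
  letI : Module K (ι → F) := Module.compHom (ι → F)
    ((Matrix.toLinAlgEquiv' : Matrix ι ι F ≃ₐ[F] _).toAlgHom.comp K.val).toRingHom
  have hsmul : ∀ (k : K) (x : ι → F), k • x = Matrix.mulVec k.1 x := fun k x => Matrix.toLinAlgEquiv'_apply k.1 x
  haveI : IsScalarTower F K (ι → F) := ⟨fun c k x => by
    rw [hsmul, hsmul]
    exact Matrix.smul_mulVec c k.1 x⟩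
  haveI : FiniteDimensional F K := Module.finite_of_finrank_pos (by
    have : Module.finrank F K = r := hK.finrank_eq
    rw [this]; exact hr.pos)
  haveI : FiniteDimensional K (ι → F) := Module.Finite.of_restrictScalars_finite F K (ι → F)
  have hfin : finrank F K = r := hK.finrank_eq
  have hBk : ∀ (k : K) x y, polar Q (k • x) y = polar Q x (k • y) := fun k x y => by
    rw [hsmul, hsmul]
    simpa only [QuadraticMap.polar, hQf] using hsa k.1 k.2 x y
  obtain ⟨f₀, hf₀'⟩ := exists_f₀ (F := F) (K := K)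
  have hf₀ : f₀ ≠ 0 := fun h => by simp [h] at hf₀'
  have huniq : ∀ a b : K, (∀ l : K, f₀ (l * a) = f₀ (l * b)) → a = b := fun a b h => by
    by_contra hne
    obtain ⟨l, hl⟩ := FieldExtOrth.exists_scalar hf₀ _ (sub_ne_zero.2 hne) (1 : F)
    rw [mul_sub, map_sub, h, sub_self] at hl
    exact zero_ne_one hl
  have hlift : ∀ x, ∃ ψ : (ι → F) →ₗ[K] K, ∀ y, (QuadraticMap.polarBilin Q) x y = f₀ (ψ y) := fun x =>
    exists_lift hf₀ _
  choose ψ hψ using hlift
  have hψk : ∀ (l : K) x y, f₀ (l * ψ x y) = polar Q x (l • y) := fun l x y => by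
    rw [← QuadraticMap.polarBilin_apply_apply, hψ, map_smul, smul_eq_mul]
  let φ : (ι → F) →ₗ[K] (ι → F) →ₗ[K] K :=
    { toFun := ψ
      map_add' := fun x x' => LinearMap.ext fun y => huniq _ _ fun l => by
        rw [LinearMap.add_apply, mul_add, map_add, hψk, hψk, hψk, polar_add_left]
      map_smul' := fun k x => LinearMap.ext fun y => huniq _ _ fun l => by
        rw [RingHom.id_apply, LinearMap.smul_apply, smul_eq_mul, ← mul_assoc, hψk, hψk, hBk, smul_smul, mul_comm k] }
  have hφ : ∀ x y, polar Q x y = f₀ (φ x y) := fun x y => by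
    rw [← QuadraticMap.polarBilin_apply_apply, hψ]; rfl
  have hsym : ∀ x y, φ x y = φ y x := fun x y => huniq _ _ fun l => by
    show f₀ (l * ψ x y) = f₀ (l * ψ y x)
    rw [hψk, hψk, ← hBk, polar_comm]
  have hφN : ∀ x, (∀ y, φ x y = 0) → x = 0 := fun x hx => hnd.1 x fun y => by
    rw [QuadraticMap.polarBilin_apply_apply, hφ, hx y, map_zero]
  have hprod := finrank_mul_finrank F K (ι → F)
  rw [hfin, Module.finrank_pi] at hprod
  have hdim : finrank K (ι → F) = 3 := by
    rw [hm, mul_comm 3] at hprod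
    exact Nat.eq_of_mul_eq_mul_left hr.pos hprod
  set N := Cfsg.Geo.subalgebraNormalizer K
  have hmv : ∀ (g : orthGroup Q) x, Matrix.mulVec ((orthToGL Q hQf g : GL ι F) : Matrix ι ι F) x = g.1 x :=
    fun g x => by
      have h := LinearMap.congr_fun (toLin'_orthToGL Q hQf g) x
      rwa [Matrix.toLin'_apply] at h
  have hmemN : ∀ g : orthGroup Q, orthToGL Q hQf g ∈ N ↔ ∀ k : K, ∃ k' : K, ∀ x, g.1 (k • x) = k' • g.1 x :=
    fun g => by
      rw [FieldExtMax.mem_normalizer_iff]
      simp only [hmv, hsmul]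
  have h2K : (2 : K) ≠ 0 := fun e => h2 ((algebraMap F K).injective (by rw [map_ofNat, map_zero]; exact e))
  have hquad : ∀ x, Q x = 2⁻¹ * f₀ (φ x x) := fun x => by
    rw [← hφ, polar_self', ← mul_assoc, inv_mul_cancel₀ h2, one_mul]
  have hsquare : ∀ s : (ι → F) ≃ₗ[K] (ι → F), (∀ x y, φ (s x) (s y) = φ x y) →
      ∃ e : orthGroup Q, e ∈ commutator (orthGroup Q) ∧ orthToGL Q hQf e ∈ N ∧ ∀ x, e.1 x = s (s x) := by
    intro s hs
    let t : orthGroup Q := ⟨s.restrictScalars F, fun x => by
      show Q (s x) = Q x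
      rw [hquad, hquad, hs]⟩
    have htt : ∀ x, (t * t).1 x = s (s x) := fun x => rfl
    refine ⟨t * t, sq_mem_commutator hnd (good_of_two_ne h2) t, (hmemN _).2 fun k => ⟨k, fun x => ?_⟩, htt⟩
    rw [htt, htt, map_smul, map_smul]
  have hset : ∀ M : Subgroup (orthGroup Q),
      (∀ y ∈ commutator (orthGroup Q), orthToGL Q hQf y ∈ N → y ∈ M) → Set3 Q φ f₀ M := fun M hM =>
    ⟨h2, hsym, hφN, hf₀, hφ, hdim, hfin ▸ hr, hfin ▸ h5, fun s hs => by
      obtain ⟨e, he, heN, hex⟩ := hsquare s hs
      exact ⟨e, hM e he heN, hex⟩⟩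
  refine omega_isMaximalIn_inf Q hQf N ?_ fun M hM g hgM _ hgN => ?_
  · -- a root element of the orthogonal group over `F` that is not semilinear
    have h := hset ⊤ fun _ _ _ => trivial
    obtain ⟨a, ha0, ha⟩ := h.exists_null
    obtain ⟨B, hB⟩ := h.exists_frame ha ha0
    subst hB
    set a := B.a with hadef
    set b := B.b with hbdef
    have hab : φ a b = 1 := B.ab
    obtain ⟨c, hc⟩ : ∃ c : K, c ∉ Submodule.span F {(1 : K)} := by
      by_contra hall
      push Not at hall
      have h1 : Submodule.span F {(1 : K)} = ⊤ := eq_top_iff.2 fun x _ => hall x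
      have h3 := finrank_span_singleton (K := F) (one_ne_zero : (1 : K) ≠ 0)
      rw [h1, finrank_top, hfin] at h3
      exact hr.one_lt.ne' h3
    obtain ⟨e, he1, he2⟩ := h.exists_scalar_perp (S := Submodule.span F {c}) (x := (1 : K)) fun hm => by
      obtain ⟨t, ht⟩ := Submodule.mem_span_singleton.1 hm
      have ht0 : t ≠ 0 := by rintro rfl; simp at ht
      exact hc (Submodule.mem_span_singleton.2 ⟨t⁻¹, by rw [← ht, inv_smul_smul₀ ht0]⟩)
    obtain ⟨e', he1', he2'⟩ := h.exists_scalar_perp (S := Submodule.span F {(1 : K)}) hc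
    have he3 : f₀ (c * e) = 0 := by rw [mul_comm]; exact he1 c (Submodule.mem_span_singleton_self c)
    have he3' : f₀ e' = 0 := by simpa using he1' 1 (Submodule.mem_span_singleton_self 1)
    rw [mul_one] at he2
    rw [mul_comm] at he2'
    obtain ⟨g, hg⟩ := exists_isSiegel hnd (h.quad_zero ha)
      (show polar Q a (c • a) = 0 by rw [h.polar_smul_right, ha, mul_zero, map_zero])
    refine ⟨g, FieldExtOrth.siegel_mem_commutator hnd h2 hg, fun hgN => ?_⟩
    have hQc : Q (c • a) = 0 := h.quad_zero (by simp [ha])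
    have hgx : ∀ k : K, g.1 (k • b) = k • b + (f₀ k • c - f₀ (c * k) • (1 : K)) • a := fun k => by
      rw [hg.2.2, hQc, h.polar_smul_right, polar_smul_smul3 h, hab, mul_one, mul_one, zero_mul, sub_zero,
        sub_smul, smul_assoc, smul_assoc, one_smul, neg_smul, sub_eq_add_neg, add_assoc]
    have hga : ∀ k : K, g.1 (k • a) = k • a := fun k => by
      rw [hg.2.2, hQc, h.polar_smul_right, polar_smul_smul3 h, ha]; simp
    -- the element is linear over `K`
    have hlin : ∀ k : K, ∀ x, g.1 (k • x) = k • g.1 x := fun k => by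
      obtain ⟨k', hk'⟩ := (hmemN g).1 hgN k
      have h1 := hk' a
      rw [hga, show g.1 a = a by simpa using hga 1] at h1
      rwa [← smul_left_injective K ha0 h1] at hk'
    have h1 := hlin e' ((1 : K) • b)
    have h1' := hlin e ((1 : K) • b)
    rw [smul_smul, mul_one, hgx, hgx, he3', he2', smul_add, smul_smul, smul_smul, mul_one] at h1
    rw [smul_smul, mul_one, hgx, hgx, he2, he3, smul_add, smul_smul, smul_smul, mul_one] at h1'
    have e1 := smul_left_injective K ha0 (add_left_cancel h1)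
    have e1' := smul_left_injective K ha0 (add_left_cancel h1')
    simp only [zero_smul, one_smul, zero_sub, sub_zero] at e1 e1'
    have he0 : e ≠ 0 := fun h0 => by rw [h0, map_zero] at he2; exact zero_ne_one he2
    have e3 : c * e' = -e := by
      refine mul_left_cancel₀ (show f₀ (1 : K) • c - f₀ (c * 1) • (1 : K) ≠ 0 from fun h0 => by
        rw [mul_one] at h0 e1
        rw [h0, mul_zero] at e1
        exact neg_ne_zero.2 one_ne_zero e1) ?_
      linear_combination (-(c : K)) * e1 - e1'
    rw [e3, map_neg, he2] at he2'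
    exact h2 (by linear_combination (-1 : F) * he2')
  · have h := hset M hM
    refine h.omega_le (good_of_two_ne h2) hgM ?_
    by_contra hall
    push Not at hall
    refine hgN ((hmemN g).2 fun k => ?_)
    obtain ⟨k', hk'⟩ := semilinear_of_lines (by omega) g.1 hall k
    exact ⟨k', hk'⟩

end CfsgLib.Classical.FieldExtOrth3
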