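import Cfsg.Agent.Lib.Classical.FieldExtOrth3.Odd

/-!
# Moving an odd intersection to a singular line
-/

set_option autoImplicit false
set_option linter.unusedSectionVars false

namespace CfsgLib.Classical.FieldExtOrth3

open Module QuadraticMap CfsgLib.Orth CfsgLib.Classical CfsgLib.Classical.FieldExtMax

variable {F K V : Type*} [Field F] [Field K] [Algebra F K] [AddCommGroup V] [Module F V] [Module K V]
  [IsScalarTower F K V] [FiniteDimensional F K] [FiniteDimensional K V] [FiniteDimensional F V]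
  {Q : QuadraticForm F V} {φ : V →ₗ[K] V →ₗ[K] K} {f : K →ₗ[F] F} {M : Subgroup (orthGroup Q)}

variable (h : Set3 Q φ f M)
include h

theorem Set3.aniso_perp {W : Submodule K V} (hW : W ≠ ⊥)
    (hπ : ∀ x : V, ∃ x', x' ∈ W ∧ ∀ w ∈ W, φ w x = φ w x') : ∃ w ∈ W, φ w w ≠ 0 := by
  by_contra hno
  push Not at hno
  obtain ⟨w, hw, hw0⟩ := Submodule.exists_mem_ne_zero_of_ne_bot hW
  refine hw0 (h.nondeg w fun x => ?_)
  obtain ⟨x', hx', e⟩ := hπ x
  rw [e w hw]
  have h1 := hno _ (W.add_mem hw hx')
  simp only [map_add, LinearMap.add_apply, hno w hw, hno x' hx', h.symm x' w, zero_add, add_zero, ← two_mul] at h1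
  exact (mul_eq_zero.1 h1).resolve_left h.twoK

theorem Set3.ortho_decomp {u v w : V} (hu : φ u u ≠ 0) (hv : φ v v ≠ 0) (hw : φ w w ≠ 0) (huv : φ u v = 0)
    (huw : φ u w = 0) (hvw : φ v w = 0) (x : V) :
    x = (φ u x / φ u u) • u + (φ v x / φ v v) • v + (φ w x / φ w w) • w := by
  have hind : LinearIndependent K ![u, v, w] := by
    rw [Fintype.linearIndependent_iff]
    intro g hg
    simp only [Fin.sum_univ_three, Matrix.cons_val_zero, Matrix.cons_val_one, Matrix.cons_val] at hg
    have e1 := congrArg (φ u) hg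
    have e2 := congrArg (φ v) hg
    have e3 := congrArg (φ w) hg
    simp [huv, huw, hvw, h.symm v u, h.symm w u, h.symm w v, hu, hv, hw] at e1 e2 e3
    intro i
    fin_cases i <;> simp [e1, e2, e3]
  have hspan := hind.span_eq_top_of_card_eq_finrank (by simp [h.dim])
  have hx : x ∈ Submodule.span K (Set.range ![u, v, w]) := hspan ▸ Submodule.mem_top
  obtain ⟨g, rfl⟩ := (Submodule.mem_span_range_iff_exists_fun K).1 hx
  simp [Fin.sum_univ_three, huv, huw, hvw, h.symm v u, h.symm w u, h.symm w v, hu, hv, hw]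

theorem Set3.exists_ortho {z : V} (hz : φ z z ≠ 0) :
    ∃ u v, φ z u = 0 ∧ φ z v = 0 ∧ φ u v = 0 ∧ φ u u ≠ 0 ∧ φ v v ≠ 0 := by
  have hker : ∀ χ : V →ₗ[K] K, 2 ≤ finrank K (LinearMap.ker χ) := fun χ => by
    have h1 := χ.finrank_range_add_finrank_ker
    have h2 : finrank K (LinearMap.range χ) ≤ 1 := by simpa using Submodule.finrank_le (LinearMap.range χ)
    rw [h.dim] at h1
    omega
  obtain ⟨u, hu, huu⟩ := h.aniso_perp (W := LinearMap.ker (φ z))
    (fun e => by have := hker (φ z); rw [e, finrank_bot] at this; omega)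
    fun x => ⟨x - (φ z x / φ z z) • z, by simp [hz], fun w hw => by
      simp [h.symm w z, show φ z w = 0 from hw]⟩
  have hzu : φ z u = 0 := hu
  obtain ⟨v, ⟨hv, hv'⟩, hvv⟩ := h.aniso_perp (W := LinearMap.ker (φ z) ⊓ LinearMap.ker (φ u))
    (fun e => by
      have h1 := Submodule.finrank_sup_add_finrank_inf_eq (LinearMap.ker (φ z)) (LinearMap.ker (φ u))
      have h2 := Submodule.finrank_le (LinearMap.ker (φ z) ⊔ LinearMap.ker (φ u))
      have h3 := hker (φ z)
      have h4 := hker (φ u)
      rw [e, finrank_bot] at h1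
      rw [h.dim] at h2
      omega)
    fun x => ⟨x - (φ z x / φ z z) • z - (φ u x / φ u u) • u,
      ⟨by simp [hz, hzu], by simp [huu, h.symm u z, hzu]⟩, fun w hw => by
        simp [h.symm w z, show φ z w = 0 from hw.1, h.symm w u, show φ u w = 0 from hw.2]⟩
  exact ⟨u, v, hzu, hv, hv', huu, hvv⟩

/-- An involution of `M` with a given axis. -/
theorem Set3.exists_invol {z u v : V} (hz : φ z z ≠ 0) (hzu : φ z u = 0) (hzv : φ z v = 0) (huv : φ u v = 0)
    (huu : φ u u ≠ 0) (hvv : φ v v ≠ 0) {x y : K}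
    (hxy : φ u u * (x * x) + φ v v * (y * y) = φ z z * φ u u * φ v v) :
    ∃ e : orthGroup Q, e ∈ M ∧ ∀ p, e.1 p =
      (2 * (φ (x • u + y • v) p / φ (x • u + y • v) (x • u + y • v))) • (x • u + y • v) - p := by
  set w := x • u + y • v with hw
  set γ := φ z z
  set e₂ := (φ u u * φ v v)⁻¹ • ((-(φ v v * y)) • u + (φ u u * x) • v) with he₂
  have hww : φ w w = γ * φ u u * φ v v := by
    simp [hw, huv, h.symm v u]
    linear_combination hxy
  have hwz : φ w z = 0 := by simp [hw, h.symm u z, hzu, h.symm v z, hzv]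
  have hze : φ z e₂ = 0 := by simp [he₂, hzu, hzv]
  have hwe : φ w e₂ = 0 := by
    simp [he₂, hw, huv, h.symm v u]
    ring
  have hee : φ e₂ e₂ = γ := by
    simp [he₂, huv, h.symm v u]
    field_simp
    linear_combination hxy
  have hw0 : φ w w ≠ 0 := by rw [hww]; exact mul_ne_zero (mul_ne_zero hz huu) hvv
  have hdec := h.ortho_decomp hw0 hz (hee.trans_ne hz) hwz hwe hze
  let L : V →ₗ[K] V := ((φ w w)⁻¹ • φ w).smulRight w + (γ⁻¹ • φ z).smulRight e₂ - (γ⁻¹ • φ e₂).smulRight z
  have hL : ∀ p, L p = (φ w p / φ w w) • w + (φ z p / γ) • e₂ - (φ e₂ p / γ) • z := fun p => by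
    simp [L, div_eq_inv_mul]
  have hL1 : ∀ p, φ w (L p) = φ w p ∧ φ z (L p) = -φ e₂ p ∧ φ e₂ (L p) = φ z p := fun p => by
    refine ⟨?_, ?_, ?_⟩ <;>
      simp [hL, hwz, hwe, hze, hee, h.symm z w, h.symm e₂ w, h.symm e₂ z, hw0, hz, γ]
  have hiso : ∀ p p', φ (L p) (L p') = φ p p' := by
    intro p p'
    conv_rhs => rw [hdec p]
    conv_lhs => rw [hL p]
    simp only [map_add, map_sub, map_smul, LinearMap.add_apply, LinearMap.sub_apply, LinearMap.smul_apply,
      smul_eq_mul, (hL1 p').1, (hL1 p').2.1, (hL1 p').2.2, hee]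
    ring
  have hinj : Function.Injective L := (injective_iff_map_eq_zero L).2 fun p hp =>
    h.nondeg p fun p' => by rw [← hiso, hp]; simp
  let s : V ≃ₗ[K] V := LinearEquiv.ofInjectiveEndo L hinj
  have hs : ∀ p, s p = L p := fun p => LinearEquiv.coe_ofInjectiveEndo L hinj ▸ rfl
  obtain ⟨e, he, hes⟩ := h.sq s fun p p' => by rw [hs, hs, hiso]
  refine ⟨e, he, fun p => ?_⟩
  rw [hes, hs, hs, hL (L p), (hL1 p).1, (hL1 p).2.1, (hL1 p).2.2]
  conv_rhs => arg 2; rw [hdec p]
  rw [hee, neg_div, two_mul, add_smul]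
  module

omit h in
/-- Solutions of a binary equation. -/
theorem binary_card [Fintype K] [DecidableEq K] (h2 : (2 : K) ≠ 0) {a b c : K} (ha : a ≠ 0) (hb : b ≠ 0)
    (hc : c ≠ 0) :
    Fintype.card K ≤ (Finset.univ.filter fun p : K × K => a * (p.1 * p.1) + b * (p.2 * p.2) = c).card + 2 := by
  classical
  have hodd : Fintype.card K % 2 = 1 := FiniteField.odd_card_of_char_ne_two fun e => h2 (by
    haveI := ringChar.of_eq e; exact CharTwo.two_eq_zero)
  obtain ⟨x₀, y₀, h0⟩ := FiniteField.exists_root_sum_quadratic (R := K)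
    (f := Polynomial.C a * Polynomial.X ^ 2 - Polynomial.C c) (g := Polynomial.C b * Polynomial.X ^ 2)
    (by rw [Polynomial.degree_sub_C (by simp [Polynomial.degree_C_mul_X_pow 2 ha]),
          Polynomial.degree_C_mul_X_pow 2 ha]; norm_num)
    (by rw [Polynomial.degree_C_mul_X_pow 2 hb]; norm_num) hodd
  simp only [Polynomial.eval_sub, Polynomial.eval_mul, Polynomial.eval_C, Polynomial.eval_pow,
    Polynomial.eval_X] at h0
  set T := Finset.univ.filter fun τ : K => a + b * (τ * τ) ≠ 0 with hT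
  have hbad : (Finset.univ.filter fun τ : K => ¬ a + b * (τ * τ) ≠ 0).card ≤ 2 := by
    by_contra hgt
    push Not at hgt
    obtain ⟨p, q, s, hp, hq, hs, hpq, hps, hqs⟩ := Finset.two_lt_card_iff.1 hgt
    simp only [Finset.mem_filter, Finset.mem_univ, true_and, not_not] at hp hq hs
    have h1 : q = -p := by
      have e : b * ((q - p) * (q + p)) = 0 := by linear_combination hq - hp
      have := (mul_eq_zero.1 ((mul_eq_zero.1 e).resolve_left hb)).resolve_left (sub_ne_zero.2 hpq.symm)
      linear_combination this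
    have h3 : s = -p := by
      have e : b * ((s - p) * (s + p)) = 0 := by linear_combination hs - hp
      have := (mul_eq_zero.1 ((mul_eq_zero.1 e).resolve_left hb)).resolve_left (sub_ne_zero.2 hps.symm)
      linear_combination this
    exact hqs (h1.trans h3.symm)
  have hsplit := Finset.card_filter_add_card_filter_not (s := (Finset.univ : Finset K))
    fun τ : K => a + b * (τ * τ) ≠ 0
  rw [Finset.card_univ] at hsplit
  let lam : K → K := fun τ => 2 * (a * x₀ + b * τ * y₀) / (a + b * (τ * τ))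
  have hinj : Set.InjOn (fun τ => (x₀ - lam τ, y₀ - lam τ * τ)) (T : Set K) := by
    intro τ hτ σ hσ e
    simp only [hT, Finset.coe_filter, Finset.mem_univ, true_and, Set.mem_ofPred_eq] at hτ hσ
    simp only [Prod.mk.injEq, sub_right_inj] at e
    by_cases hl : lam τ = 0
    · have e1 : a * x₀ + b * τ * y₀ = 0 := by
        simp only [lam, div_eq_zero_iff, mul_eq_zero, h2, hτ, false_or, or_false] at hl
        exact hl
      have e2 : a * x₀ + b * σ * y₀ = 0 := by
        have := e.1.symm.trans hl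
        simp only [lam, div_eq_zero_iff, mul_eq_zero, h2, hσ, false_or, or_false] at this
        exact this
      have hy : y₀ ≠ 0 := fun hy => by
        rw [hy, mul_zero, add_zero, mul_eq_zero] at e1
        rw [hy, e1.resolve_left ha] at h0
        exact hc (by linear_combination -h0)
      exact mul_left_cancel₀ hb (mul_right_cancel₀ hy (by linear_combination e1 - e2))
    · have := e.2
      rw [← e.1] at this
      exact mul_left_cancel₀ hl this
  have hle := Finset.card_le_card_of_injOn (t := Finset.univ.filter fun p : K × K =>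
      a * (p.1 * p.1) + b * (p.2 * p.2) = c) (fun τ => (x₀ - lam τ, y₀ - lam τ * τ)) (fun τ hτ => by
    simp only [hT, Finset.coe_filter, Finset.mem_filter, Finset.mem_univ, true_and, Set.mem_ofPred_eq] at hτ ⊢
    have hl : lam τ * (a + b * (τ * τ)) = 2 * (a * x₀ + b * τ * y₀) := div_mul_cancel₀ _ hτ
    linear_combination h0 + lam τ * hl) hinj
  rw [← hT] at hsplit
  omega

/-- A line meeting an image in odd dimension. -/
theorem Set3.exists_odd [Finite F] {g : orthGroup Q} (hg : g ∈ M)
    (hne : ∃ x, ∃ k : K, g.1 (k • x) ∉ line F K (g.1 x)) :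
    ∃ a P, a ≠ 0 ∧ φ a a = 0 ∧ Img φ M P ∧ P ≠ line F K a ∧
      Odd (finrank F (P ⊓ line F K a : Submodule F V)) := by
  classical
  haveI : Finite K := Module.finite_of_finite F
  haveI : Fintype K := Fintype.ofFinite K
  haveI : Finite V := Module.finite_of_finite F
  haveI : Fintype V := Fintype.ofFinite V
  obtain ⟨P, hP, hPl⟩ := h.exists_not_line hg hne
  obtain ⟨z, hzP, hz0, hzodd⟩ := h.exists_odd_point hP.finrank_eq
  by_cases hzz : φ z z = 0
  · exact ⟨z, P, hz0, hzz, hP, hPl z, hzodd⟩
  obtain ⟨u, v, hzu, hzv, huv, huu, hvv⟩ := h.exists_ortho hzz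
  set c := φ z z * φ u u * φ v v with hc
  have hc0 : c ≠ 0 := mul_ne_zero (mul_ne_zero hzz huu) hvv
  set W := Finset.univ.filter fun p : K × K => φ u u * (p.1 * p.1) + φ v v * (p.2 * p.2) = c with hW
  have hWc : Fintype.card K ≤ W.card + 2 := binary_card h.twoK huu hvv hc0
  let ax : K × K → V := fun p => p.1 • u + p.2 • v
  have haxn : ∀ p ∈ W, φ (ax p) (ax p) = c := fun p hp => by
    have h1 := (Finset.mem_filter.1 hp).2
    simp [ax, huv, h.symm v u]
    linear_combination h1
  have haxz : ∀ p, φ z (ax p) = 0 := fun p => by simp [ax, hzu, hzv]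
  have haxi : ∀ {p p'}, ax p = ax p' → p = p' := fun {p p'} e => by
    have e1 := congrArg (φ u) e
    have e2 := congrArg (φ v) e
    simp [ax, huv, h.symm v u, huu, hvv] at e1 e2
    exact Prod.ext e1 e2
  -- two vectors of the given norm on a line differ by a sign
  have htwo : ∀ (x : V) (k₀ : K), ((W.filter fun p => ∃ k : K, ax p = k • x).image ax) ⊆ {k₀ • x, (-k₀) • x} ∨
      ∀ p ∈ W, ¬ ax p = k₀ • x := by
    intro x k₀
    by_cases hex : ∃ p ∈ W, ax p = k₀ • x
    · refine Or.inl fun y hy => ?_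
      obtain ⟨p', hp', rfl⟩ := Finset.mem_image.1 hy
      obtain ⟨hp'W, k, hk⟩ := Finset.mem_filter.1 hp'
      obtain ⟨p, hpW, hp⟩ := hex
      have e1 := haxn p hpW
      have e2 := haxn p' hp'W
      rw [hp] at e1
      rw [hk] at e2
      simp only [map_smul, LinearMap.smul_apply, smul_eq_mul] at e1 e2
      have hxx : φ x x ≠ 0 := fun e => hc0 (by rw [← e1, e, mul_zero, mul_zero])
      have e3 : (k - k₀) * (k + k₀) = 0 := by
        have e4 : φ x x * ((k - k₀) * (k + k₀)) = 0 := by linear_combination e2 - e1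
        exact (mul_eq_zero.1 e4).resolve_left hxx
      rcases mul_eq_zero.1 e3 with e4 | e4
      · simp [hk, sub_eq_zero.1 e4]
      · simp [hk, eq_neg_of_add_eq_zero_left e4]
    · push Not at hex
      exact Or.inr hex
  have htwo' : ∀ x : V, (W.filter fun p => ∃ k : K, ax p = k • x).card ≤ 2 := by
    intro x
    rcases (W.filter fun p => ∃ k : K, ax p = k • x).eq_empty_or_nonempty with e | ⟨p, hp⟩
    · simp [e]
    obtain ⟨hpW, k, hk⟩ := Finset.mem_filter.1 hp
    rw [← Finset.card_image_of_injective _ fun p p' e => haxi e]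
    rcases htwo x k with h1 | h1
    · exact (Finset.card_le_card h1).trans Finset.card_le_two
    · exact absurd hk (h1 p hpW)
  set D := P ⊓ line F K z with hD
  set q := Nat.card F with hq
  haveI : Fintype F := Fintype.ofFinite F
  set r := finrank F K with hr
  have hq3 : 3 ≤ q := by
    have h1 : 2 ≤ q := Finite.one_lt_card
    have h3 : q ≠ 2 := by
      intro e
      rw [hq, Nat.card_eq_fintype_card] at e
      have h4 : ((Fintype.card F : ℕ) : F) = 0 := Nat.cast_card_eq_zero F
      rw [e] at h4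
      exact h.two (by exact_mod_cast h4)
    omega
  have hcardW : ∀ N : Submodule F V, (Finset.univ.filter fun y : V => y ∈ N).card = q ^ finrank F N := by
    intro N
    rw [← Fintype.card_subtype, ← Nat.card_eq_fintype_card]
    exact Module.natCard_eq_pow_finrank
  have hKc : Fintype.card K = q ^ r := by
    rw [← Nat.card_eq_fintype_card]; exact Module.natCard_eq_pow_finrank
  -- axes through `P`
  set P' := P ⊓ (LinearMap.ker (φ z)).restrictScalars F with hP'
  have hP'r : finrank F P' < r := by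
    rw [hr, ← hP.finrank_eq]
    exact Submodule.finrank_lt_finrank_of_lt (lt_of_le_of_ne inf_le_left fun e => hzz (e.ge hzP).2)
  set X₁ := (Finset.univ.filter fun y : V => y ∈ P').erase 0 with hX₁
  set B₁ := W.filter fun p => ∃ x ∈ X₁, ∃ k : K, ax p = k • x with hB₁
  have hB₁c : B₁.card * (q - 1) ≤ X₁.card * 2 := by
    refine Finset.card_mul_le_card_mul (fun p x => ∃ k : K, ax p = k • x) (fun p hp => ?_) fun x _ => ?_
    · obtain ⟨-, x, hx, k, hk⟩ := Finset.mem_filter.1 hp
      obtain ⟨hx0, hxP⟩ := Finset.mem_erase.1 hx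
      rw [Finset.mem_filter] at hxP
      rw [show q - 1 = ((Finset.univ : Finset F).erase 0).card by
        rw [Finset.card_erase_of_mem (Finset.mem_univ _), Finset.card_univ, hq, Nat.card_eq_fintype_card]]
      refine Finset.card_le_card_of_injOn (fun t : F => t • x) (fun t ht => ?_) fun t _ t' _ e => ?_
      · simp only [Finset.coe_erase, Finset.coe_univ, Set.mem_sdiff, Set.mem_univ, Set.mem_singleton_iff,
          true_and] at ht
        refine Finset.mem_filter.2 ⟨Finset.mem_erase.2 ⟨smul_ne_zero ht hx0,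
          Finset.mem_filter.2 ⟨Finset.mem_univ _, P'.smul_mem _ hxP.2⟩⟩, k * algebraMap F K t⁻¹, ?_⟩
        show ax p = _ • t • x
        rw [← algebraMap_smul K t x, smul_smul, mul_assoc, ← map_mul, inv_mul_cancel₀ ht, map_one, mul_one, hk]
      · exact smul_left_injective F hx0 e
    · refine le_trans (Finset.card_le_card fun p hp => ?_) (htwo' x)
      obtain ⟨hp, k, hk⟩ := Finset.mem_filter.1 hp
      exact Finset.mem_filter.2 ⟨(Finset.mem_filter.1 hp).1, k, hk⟩
  -- axes orthogonal to further vectors of `P`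
  set X₂ := (Finset.univ.filter fun y : V => y ∈ P) \ (Finset.univ.filter fun y : V => y ∈ D) with hX₂
  set B₂ := W.filter fun p => ∃ x ∈ X₂, φ (ax p) x = 0 with hB₂
  have hB₂c : B₂.card * (q * (q - 1)) ≤ X₂.card * 2 := by
    refine Finset.card_mul_le_card_mul (fun p x => φ (ax p) x = 0) (fun p hp => ?_) fun x hx => ?_
    · obtain ⟨-, x, hx, hpx⟩ := Finset.mem_filter.1 hp
      simp only [hX₂, Finset.mem_sdiff, Finset.mem_filter, Finset.mem_univ, true_and] at hx
      rw [show q * (q - 1) = ((Finset.univ : Finset F) ×ˢ ((Finset.univ : Finset F).erase 0)).card by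
        rw [Finset.card_product, Finset.card_erase_of_mem (Finset.mem_univ _), Finset.card_univ, hq,
          Nat.card_eq_fintype_card]]
      have hzD : z ∈ D := ⟨hzP, self_mem_line z⟩
      refine Finset.card_le_card_of_injOn (fun t : F × F => t.2 • x + t.1 • z) (fun t ht => ?_)
        fun t ht t' ht' e => ?_
      · simp only [Finset.coe_product, Set.mem_prod, Finset.coe_univ, Set.mem_univ, true_and, Finset.coe_erase,
          Set.mem_sdiff, Set.mem_singleton_iff] at ht
        refine Finset.mem_filter.2 ⟨?_, ?_⟩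
        · simp only [hX₂, Finset.mem_sdiff, Finset.mem_filter, Finset.mem_univ, true_and]
          refine ⟨P.add_mem (P.smul_mem _ hx.1) (P.smul_mem _ hzP), fun hmem => hx.2 ?_⟩
          have h1 := D.smul_mem t.2⁻¹ (D.sub_mem hmem (D.smul_mem t.1 hzD))
          rwa [add_sub_cancel_right, smul_smul, inv_mul_cancel₀ ht, one_smul] at h1
        · simp [LinearMap.map_smul_of_tower, hpx, h.symm (ax p) z, haxz]
      · simp only at e
        have h1 : t.2 = t'.2 := by
          by_contra hne'
          refine hx.2 ?_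
          have h2 : x = (t.2 - t'.2)⁻¹ • ((t'.1 - t.1) • z) := by
            rw [eq_inv_smul_iff₀ (sub_ne_zero.2 hne'), sub_smul, sub_smul, sub_eq_sub_iff_add_eq_add, e]
            abel
          rw [h2]
          exact D.smul_mem _ (D.smul_mem _ hzD)
        rw [h1, add_right_inj] at e
        exact Prod.ext (smul_left_injective F hz0 e) h1
    · -- the vectors orthogonal to `z` and `x` form a line
      simp only [hX₂, Finset.mem_sdiff, Finset.mem_filter, Finset.mem_univ, true_and] at hx
      set η := φ u x with hη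
      set θ := φ v x with hθ
      refine le_trans (Finset.card_le_card fun p hp => ?_) (htwo' (θ • u - η • v))
      obtain ⟨hp, hpx⟩ := Finset.mem_filter.1 hp
      refine Finset.mem_filter.2 ⟨(Finset.mem_filter.1 hp).1, ?_⟩
      have hne : θ ≠ 0 ∨ η ≠ 0 := by
        by_contra hno
        push Not at hno
        refine hx.2 ⟨hx.1, mem_line.2 ⟨φ z x / φ z z, ?_⟩⟩
        conv_rhs => rw [h.ortho_decomp hzz huu hvv hzu hzv huv x, ← hη, ← hθ, hno.1, hno.2]
        simp
      simp only [ax, map_add, map_smul, LinearMap.add_apply, LinearMap.smul_apply, smul_eq_mul, ← hη,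
        ← hθ] at hpx ⊢
      rcases hne with hn | hn
      · refine ⟨p.1 / θ, ?_⟩
        rw [smul_sub, smul_smul, smul_smul, div_mul_cancel₀ _ hn, sub_eq_add_neg, ← neg_smul]
        congr 2
        field_simp
        linear_combination hpx
      · refine ⟨-(p.2 / η), ?_⟩
        rw [smul_sub, smul_smul, smul_smul, neg_mul, neg_mul, div_mul_cancel₀ _ hn, neg_smul, neg_smul, sub_neg_eq_add,
          ← neg_smul]
        congr 2
        field_simp
        linear_combination hpx
  obtain ⟨p, hpW, hp₁, hp₂⟩ : ∃ p ∈ W, p ∉ B₁ ∧ p ∉ B₂ := by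
    by_contra hno
    push Not at hno
    have hle : W.card ≤ B₁.card + B₂.card := (Finset.card_le_card fun p hp => by
      by_cases h1 : p ∈ B₁
      · exact Finset.mem_union_left _ h1
      · exact Finset.mem_union_right _ (hno p hp h1)).trans (Finset.card_union_le _ _)
    have h1 : X₁.card + 1 ≤ q ^ (r - 1) := by
      rw [hX₁, Finset.card_erase_add_one (by simp [P'.zero_mem]), hcardW]
      exact Nat.pow_le_pow_right (by omega) (by omega)
    have h2 : X₂.card + q ≤ q ^ r := by
      have hsub : (Finset.univ.filter fun y : V => y ∈ D) ⊆ (Finset.univ.filter fun y : V => y ∈ P) :=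
        fun y hy => by simp only [Finset.mem_filter] at hy ⊢; exact ⟨hy.1, hy.2.1⟩
      rw [hX₂, Finset.card_sdiff_of_subset hsub, hcardW, hcardW, hP.finrank_eq, ← hr]
      have h3 : q ≤ q ^ finrank F D := Nat.le_self_pow (by
        obtain ⟨j, hj⟩ := hzodd; omega) q
      have h4 : q ^ finrank F D ≤ q ^ r := Nat.pow_le_pow_right (by omega) (by
        rw [hr, ← hP.finrank_eq]; exact Submodule.finrank_mono inf_le_left)
      omega
    obtain ⟨X, hX⟩ : ∃ X, X = q ^ (r - 1) := ⟨_, rfl⟩
    have hqr : q ^ r = q * X := by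
      rw [hX, ← pow_succ']; congr 1
      have := h.three; omega
    rw [hqr] at h2 hKc
    rw [← hX] at h1
    have hX9 : 9 ≤ X := by
      rw [hX]
      calc 9 ≤ 3 ^ 2 := le_rfl
        _ ≤ q ^ 2 := Nat.pow_le_pow_left hq3 2
        _ ≤ q ^ (r - 1) := Nat.pow_le_pow_right (by omega) (by have := h.three; omega)
    obtain ⟨q', hq'⟩ : ∃ q', q = q' + 1 := ⟨q - 1, by omega⟩
    rw [hq'] at h2 hKc hB₁c hB₂c hq3
    rw [hKc] at hWc
    simp only [Nat.add_sub_cancel] at hB₁c hB₂c
    have h4 : B₂.card * q' + 2 ≤ 2 * X := by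
      refine Nat.le_of_mul_le_mul_left ?_ (Nat.succ_pos q')
      calc (q' + 1) * (B₂.card * q' + 2) = B₂.card * ((q' + 1) * q') + 2 * (q' + 1) := by ring
        _ ≤ X₂.card * 2 + 2 * (q' + 1) := by omega
        _ ≤ (q' + 1) * (2 * X) := by linarith
    have h5 : q' * ((q' + 1) * X) ≤ q' * (W.card + 2) := Nat.mul_le_mul_left _ hWc
    have h6 : q' * W.card ≤ q' * (B₁.card + B₂.card) := Nat.mul_le_mul_left _ hle
    have h7 : 2 * X * 3 ≤ q' * ((q' + 1) * X) := by
      calc 2 * X * 3 = 2 * (3 * X) := by ring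
        _ ≤ q' * ((q' + 1) * X) := Nat.mul_le_mul (by omega) (Nat.mul_le_mul_right _ hq3)
    have h8 : q' * 9 ≤ q' * X := Nat.mul_le_mul_left _ hX9
    nlinarith
  obtain ⟨e, he, hex⟩ := h.exists_invol hzz hzu hzv huv huu hvv (Finset.mem_filter.1 hpW).2
  set w := ax p with hw
  have hww : φ w w = c := haxn p hpW
  have hwneg : ∀ x, φ w x = 0 → e.1 x = -x := fun x hx => by
    rw [hex]
    show (2 * (φ w x / φ w w)) • w - x = -x
    rw [hx, zero_div, mul_zero, zero_smul, zero_sub]
  have hinter : P.map e.1.toLinearMap ⊓ P = D := by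
    refine le_antisymm ?_ fun x hx => ?_
    · rintro _ ⟨⟨x, hx, rfl⟩, hy⟩
      have h1 : φ w x = 0 := by
        by_contra hne
        refine hp₁ (Finset.mem_filter.2 ⟨hpW, ?_⟩)
        have hμ : 2 * (φ w x / φ w w) ≠ 0 := mul_ne_zero h.twoK (div_ne_zero hne (hww.trans_ne hc0))
        refine ⟨(2 * (φ w x / φ w w)) • w, Finset.mem_erase.2 ⟨smul_ne_zero hμ fun e0 => hc0 (by
          rw [← hww, e0]; simp), Finset.mem_filter.2 ⟨Finset.mem_univ _, ?_, ?_⟩⟩, (2 * (φ w x / φ w w))⁻¹,
          (inv_smul_smul₀ hμ _).symm⟩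
        · have h5 : (2 * (φ w x / φ w w)) • w = e.1 x + x := by rw [hex]; exact (sub_add_cancel _ _).symm
          rw [h5]
          exact P.add_mem hy hx
        · simp [show φ z w = 0 from haxz p]
      have h2 : x ∈ D := by
        by_contra hxD
        refine hp₂ (Finset.mem_filter.2 ⟨hpW, x, ?_, h1⟩)
        simp only [hX₂, Finset.mem_sdiff, Finset.mem_filter, Finset.mem_univ, true_and]
        exact ⟨hx, hxD⟩
      show e.1 x ∈ D
      rw [hwneg x h1]
      exact D.neg_mem h2
    · refine ⟨⟨-x, P.neg_mem hx.1, ?_⟩, hx.1⟩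
      show e.1 (-x) = x
      obtain ⟨k, rfl⟩ := mem_line.1 hx.2
      rw [map_neg, hwneg _ (by rw [map_smul, h.symm w z, hw, haxz p, smul_zero]), neg_neg]
  have hne' : P.map e.1.toLinearMap ≠ P := by
    intro e1
    rw [e1, inf_idem] at hinter
    refine hPl z (Submodule.eq_of_le_of_finrank_le (hinter.le.trans inf_le_right) ?_)
    rw [hP.finrank_eq, finrank_line hz0]
  obtain ⟨k, hk, a, ha0, ha, hPk⟩ := hP
  refine ⟨a, (P.map e.1.toLinearMap).map (k⁻¹).1.toLinearMap, ha0, ha,
    Img.map (Img.map ⟨k, hk, a, ha0, ha, hPk⟩ he) (inv_mem hk), fun e1 => hne' ?_, ?_⟩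
  · rw [hPk] at e1 ⊢
    have h1 := congrArg (Submodule.map k.1.toLinearMap) e1
    rw [← Submodule.map_comp, ← Submodule.map_comp, ← Submodule.map_comp] at h1
    rw [← Submodule.map_comp]
    convert h1 using 2
    ext x
    exact (inv_apply k _).symm
  · have h1 : ((P.map e.1.toLinearMap).map (k⁻¹).1.toLinearMap ⊓ line F K a).map k.1.toLinearMap = D := by
      rw [Submodule.map_inf _ k.1.injective, ← hPk, ← hinter]
      congr 1
      rw [← Submodule.map_comp]
      convert Submodule.map_id (P.map e.1.toLinearMap) using 2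
      ext x
      exact inv_apply k x
    rw [← (LinearEquiv.finrank_map_eq k.1 _), h1]
    exact hzodd

end CfsgLib.Classical.FieldExtOrth3
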