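import Cfsg.Agent.Lib.Classical.FieldExtOrth3.Basic
import Mathlib.Combinatorics.Enumerative.DoubleCounting

/-!
# An image of a line meeting a singular line in odd dimension
-/

set_option autoImplicit false
set_option linter.unusedSectionVars false

namespace CfsgLib.Classical.FieldExtOrth3

open Module QuadraticMap CfsgLib.Orth CfsgLib.Classical CfsgLib.Classical.FieldExtMax

variable {F K V : Type*} [Field F] [Field K] [Algebra F K] [AddCommGroup V] [Module F V] [Module K V]
  [IsScalarTower F K V] [FiniteDimensional F K] [FiniteDimensional K V] [FiniteDimensional F V]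
  {Q : QuadraticForm F V} {φ : V →ₗ[K] V →ₗ[K] K} {f : K →ₗ[F] F} {M : Subgroup (orthGroup Q)}

variable (h : Set3 Q φ f M)
include h

theorem Set3.phi_image {g : orthGroup Q} {x y : V} (hxy : φ x y = 0)
    (hy : (line F K y).map g.1.toLinearMap = line F K (g.1 y)) : φ (g.1 x) (g.1 y) = 0 := by
  refine h.phi_eq_zero fun k => ?_
  obtain ⟨z, hz, hz'⟩ := hy.ge (smul_mem_line (g.1 y) k)
  obtain ⟨m, rfl⟩ := mem_line.1 hz
  rw [← hz']
  show polar Q (g.1 x) (g.1 _) = 0
  rw [polar_isom, h.polar_smul_right, hxy, mul_zero, map_zero]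

/-- An element respecting the singular lines respects all lines. -/
theorem Set3.lines_of_singular [Finite F] (g : orthGroup Q)
    (hg : ∀ a, φ a a = 0 → ∀ k : K, g.1 (k • a) ∈ line F K (g.1 a)) (x : V) (k : K) :
    g.1 (k • x) ∈ line F K (g.1 x) := by
  classical
  have h2 := h.twoK
  obtain ⟨a₀, ha₀, ha₀'⟩ := h.exists_null
  obtain ⟨B, -⟩ := h.exists_frame ha₀' ha₀
  have hcc := B.cc
  have hgne : ∀ {y : V}, y ≠ 0 → g.1 y ≠ 0 :=
    fun {y} hy e => hy (g.1.injective (e.trans (map_zero g.1).symm))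
  have hmap : ∀ y, φ y y = 0 → y ≠ 0 → (line F K y).map g.1.toLinearMap = line F K (g.1 y) := by
    intro y hy hy0
    refine Submodule.eq_of_le_of_finrank_le ?_ ?_
    · rintro _ ⟨z, hz, rfl⟩
      obtain ⟨m, rfl⟩ := mem_line.1 hz
      exact hg y hy m
    · rw [finrank_line (hgne hy0), (LinearEquiv.finrank_map_eq g.1 _).trans (finrank_line hy0)]
  have hba : φ B.b B.a = 1 := by rw [h.symm, B.ab]
  have ha0 : B.a ≠ 0 := fun e => one_ne_zero (α := K) (by rw [← B.ab, e]; simp)
  have hb0 : B.b ≠ 0 := fun e => one_ne_zero (α := K) (by rw [← B.ab, e]; simp)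
  have hc0 : B.c ≠ 0 := fun e => hcc (by simp [e])
  have haa : φ (g.1 B.a) (g.1 B.a) = 0 := h.phi_image B.aa (hmap _ B.aa ha0)
  have hbb : φ (g.1 B.b) (g.1 B.b) = 0 := h.phi_image B.bb (hmap _ B.bb hb0)
  have hab : φ (g.1 B.a) (g.1 B.b) ≠ 0 := by
    intro e
    obtain ⟨m, hm⟩ := h.exists_scalar (one_ne_zero (α := K)) (1 : F)
    obtain ⟨m', hm'⟩ := mem_line.1 (hg B.b B.bb m)
    have h1 : polar Q B.a (m • B.b) = 1 := by rw [h.polar_smul_right, B.ab, hm]
    rw [← polar_isom g, ← hm', h.polar_smul_right, e, mul_zero, map_zero] at h1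
    exact zero_ne_one h1
  obtain ⟨B', hB'⟩ := h.exists_frame haa (hgne ha0)
  set π := φ (g.1 B.a) (g.1 B.b) with hπ
  -- coordinates of the images of `k • c`
  have hck : ∀ k : K, φ (g.1 B.a) (g.1 (k • B.c)) = 0 ∧ φ (g.1 B.b) (g.1 (k • B.c)) = 0 := fun k =>
    ⟨(h.symm _ _).trans (h.phi_image (by simp [h.symm B.c B.a, B.ac]) (hmap _ B.aa ha0)),
      (h.symm _ _).trans (h.phi_image (by simp [h.symm B.c B.b, B.bc]) (hmap _ B.bb hb0))⟩
  set a' := g.1 B.a with ha'
  set b' := g.1 B.b with hb'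
  set c' := g.1 B.c with hc'
  have hac' : φ a' c' = 0 := by
    have e := (hck 1).1
    rwa [one_smul, ← hc'] at e
  have hbc' : φ b' c' = 0 := by
    have e := (hck 1).2
    rwa [one_smul, ← hc'] at e
  have hc'0 : c' ≠ 0 := hgne hc0
  have hcline : ∀ z, φ a' z = 0 → φ b' z = 0 → ∃ m : K, m • c' = z := by
    have hB : ∀ z, φ a' z = 0 → φ b' z = 0 → z = (φ B'.c z / φ B'.c B'.c) •
        (B'.c - (φ b' B'.c / π) • a') := by
      intro z h1 h3
      have e := h.decomp B' z
      rw [hB', h1, zero_smul, add_zero] at e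
      have h4 : φ b' z = φ B'.b z * π + φ B'.c z / φ B'.c B'.c * φ b' B'.c := by
        conv_lhs => rw [e]
        simp [hπ, h.symm b' a']
      rw [h3] at h4
      rw [smul_sub, smul_smul]
      conv_lhs => rw [e]
      have e5 : φ B'.b z = -(φ B'.c z / φ B'.c B'.c * (φ b' B'.c / π)) := by
        field_simp at h4 ⊢
        linear_combination -h4
      rw [e5, neg_smul]
      abel
    intro z h1 h3
    have ez := hB z h1 h3
    have ec := hB c' hac' hbc'
    set w := B'.c - (φ b' B'.c / π) • a'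
    set s := φ B'.c c' / φ B'.c B'.c
    have hs : s ≠ 0 := fun e => hc'0 (by rw [ec, e, zero_smul])
    exact ⟨φ B'.c z / φ B'.c B'.c / s, by rw [ec, smul_smul, div_mul_cancel₀ _ hs, ← ez]⟩
  -- coefficient functions
  choose fa hfa using fun k => mem_line.1 (hg B.a B.aa k)
  choose fb hfb using fun k => mem_line.1 (hg B.b B.bb k)
  choose fc hfc using fun k => hcline _ (hck k).1 (hck k).2
  have hind : ∀ p q s : K, p • a' + q • c' + s • b' = 0 → p = 0 ∧ q = 0 ∧ s = 0 := by
    intro p q s he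
    have e1 := congrArg (φ a') he
    have e2 := congrArg (φ b') he
    simp [haa, hbb, hac', hbc', h.symm b' a', ← hπ, hab] at e1 e2
    rw [e1, e2, zero_smul, zero_smul, zero_add, add_zero, smul_eq_zero] at he
    exact ⟨e2, he.resolve_right hc'0, e1⟩
  have hone : ∀ {u : V} {e : K}, u ≠ 0 → e • u = u → e = 1 := fun {u e} hu he =>
    smul_left_injective K hu (by simpa using he)
  have hfa1 : fa 1 = 1 := hone (hgne ha0) (by rw [hfa, one_smul])
  have hfb1 : fb 1 = 1 := hone (hgne hb0) (by rw [hfb, one_smul])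
  have hfc1 : fc 1 = 1 := hone hc'0 (by rw [hfc, one_smul])
  have key : ∀ k t : K, fc (k * t) = fa k * fc t ∧
      fb (k * (t * t * φ B.c B.c * 2⁻¹)) = fa k * fb (t * t * φ B.c B.c * 2⁻¹) := by
    intro k t
    set w := t * t * φ B.c B.c * 2⁻¹ with hw
    have hx : φ (B.a + t • B.c - w • B.b) (B.a + t • B.c - w • B.b) = 0 := by
      simp [B.aa, B.bb, B.ab, B.ac, B.bc, hba, h.symm B.c B.a, h.symm B.c B.b, hw]
      field_simp
      ring
    obtain ⟨m, hm⟩ := mem_line.1 (hg _ hx k)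
    rw [smul_sub, smul_add, smul_smul, smul_smul, map_sub, map_add, map_sub, map_add, ← hfa k, ← hfc (k * t),
      ← hfb (k * w), ← hfc t, ← hfb w, smul_sub, smul_add, smul_smul, smul_smul] at hm
    obtain ⟨e1, e2, e3⟩ := hind (fa k - m) (fc (k * t) - m * fc t) (m * fb w - fb (k * w))
      (by simp only [sub_smul]; rw [← sub_eq_zero] at hm; linear_combination (norm := module) (-1 : K) • hm)
    rw [sub_eq_zero] at e1 e2 e3
    exact ⟨by rw [e2, e1], by rw [← e3, e1]⟩
  have hc_eq : ∀ k, fc k = fa k := fun k => by simpa [hfc1] using (key k 1).1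
  have hmul : ∀ k l, fa (k * l) = fa k * fa l := fun k l => by rw [← hc_eq, (key k l).1, hc_eq]
  have hfb_add : ∀ u v, fb (u + v) = fb u + fb v := fun u v => smul_left_injective K (hgne hb0) (by
    show fb (u + v) • b' = (fb u + fb v) • b'
    rw [hb', hfb, add_smul, add_smul, map_add, hfb, hfb])
  have hfb_sub : ∀ u v, fb (u - v) = fb u - fb v := fun u v => by
    have := hfb_add (u - v) v
    rw [sub_add_cancel] at this
    rw [this, add_sub_cancel_right]
  have hbk : ∀ k w, fb (k * w) = fa k * fb w := by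
    intro k w
    set u := w / (φ B.c B.c * 2⁻¹) with hu
    have e : w = (u + 1) / 2 * ((u + 1) / 2) * φ B.c B.c * 2⁻¹ - (u - 1) / 2 * ((u - 1) / 2) * φ B.c B.c * 2⁻¹ := by
      rw [hu]; field_simp; ring
    rw [e, mul_sub, hfb_sub, hfb_sub, (key k _).2, (key k _).2, mul_sub]
  have hb_eq : ∀ k, fb k = fa k := fun k => by simpa [hfb1] using hbk k 1
  refine mem_line.2 ⟨fa k, ?_⟩
  conv_rhs => rw [h.decomp B x]
  conv_lhs => rw [h.decomp B x]
  simp only [map_add, smul_add, smul_smul, ← hfa, ← hfb, ← hfc]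
  rw [hmul, hc_eq, hc_eq, hb_eq, hb_eq, hmul, hmul]

/-- Some image of a singular line is no line. -/
theorem Set3.exists_not_line [Finite F] {g : orthGroup Q} (hg : g ∈ M)
    (hne : ∃ x, ∃ k : K, g.1 (k • x) ∉ line F K (g.1 x)) : ∃ P, Img φ M P ∧ ∀ y, P ≠ line F K y := by
  obtain ⟨a, ha, k, hk⟩ : ∃ a, φ a a = 0 ∧ ∃ k : K, g.1 (k • a) ∉ line F K (g.1 a) := by
    by_contra hno
    push Not at hno
    obtain ⟨x, k, hk⟩ := hne
    exact hk (h.lines_of_singular g hno x k)
  have ha0 : a ≠ 0 := by rintro rfl; simp at hk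
  refine ⟨(line F K a).map g.1.toLinearMap, ⟨g, hg, a, ha0, ha, rfl⟩, fun y hy => hk ?_⟩
  have h1 : g.1 a ∈ line F K y := hy.le ⟨a, self_mem_line a, rfl⟩
  rw [line_eq_of_mem h1 fun e => ha0 (g.1.injective (e.trans (map_zero g.1).symm))]
  exact hy.le ⟨_, smul_mem_line a k, rfl⟩

/-- Some line meets the image in odd dimension. -/
theorem Set3.exists_odd_point [Finite F] {P : Submodule F V} (hP : finrank F P = finrank F K) :
    ∃ y ∈ P, y ≠ 0 ∧ Odd (finrank F (P ⊓ line F K y : Submodule F V)) := by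
  classical
  haveI : Finite V := Module.finite_of_finite F
  haveI : Fintype V := Fintype.ofFinite V
  haveI : Fintype (Submodule F V) := Fintype.ofFinite _
  haveI : Fintype F := Fintype.ofFinite F
  by_contra hall
  push Not at hall
  set q := Nat.card F with hq
  have hq2 : 2 ≤ q := Finite.one_lt_card
  set S := (Finset.univ.filter fun y : V => y ∈ P ∧ y ≠ 0) with hS
  have hcount : ∀ W : Submodule F V,
      (Finset.univ.filter fun y : V => y ∈ W ∧ y ≠ 0).card = q ^ finrank F W - 1 := by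
    intro W
    have e : (Finset.univ.filter fun y : V => y ∈ W ∧ y ≠ 0) = (Finset.univ.filter fun y : V => y ∈ W).erase 0 := by
      ext y; simp [and_comm]
    rw [e, Finset.card_erase_of_mem (by simp), ← Fintype.card_subtype, ← Nat.card_eq_fintype_card]
    rw [Module.natCard_eq_pow_finrank (K := F) (V := W)]
  have hd : q ^ 2 - 1 ∣ S.card := by
    rw [Finset.card_eq_sum_card_fiberwise (f := fun y => line F K y) (t := S.image fun y => line F K y)
      fun y hy => Finset.mem_image_of_mem _ hy]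
    refine Finset.dvd_sum fun L hL => ?_
    obtain ⟨y₀, hy₀, rfl⟩ := Finset.mem_image.1 hL
    obtain ⟨-, hy₀P, hy₀0⟩ := Finset.mem_filter.1 hy₀
    have e : (S.filter fun y => line F K y = line F K y₀) =
        Finset.univ.filter fun y : V => y ∈ P ⊓ line F K y₀ ∧ y ≠ 0 := by
      ext y
      simp only [hS, Finset.mem_filter, Finset.mem_univ, true_and, Submodule.mem_inf]
      constructor
      · rintro ⟨⟨h1, h2⟩, h3⟩
        exact ⟨⟨h1, h3 ▸ self_mem_line y⟩, h2⟩
      · rintro ⟨⟨h1, h3⟩, h2⟩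
        exact ⟨⟨h1, h2⟩, line_eq_of_mem h3 h2⟩
    rw [e, hcount]
    obtain ⟨j, hj⟩ := Nat.not_odd_iff_even.1 (hall y₀ hy₀P hy₀0)
    rw [hj, ← two_mul, pow_mul]
    simpa using Nat.sub_dvd_pow_sub_pow (q ^ 2) 1 j
  rw [hS, hcount, hP] at hd
  obtain ⟨j, hj⟩ : Odd (finrank F K) := h.prime.odd_of_ne_two (by have := h.three; omega)
  rw [hj, pow_succ q (2 * j), pow_mul] at hd
  have h1 : q ^ 2 - 1 ∣ ((q ^ 2) ^ j - 1) * q := Dvd.dvd.mul_right
    (by simpa using Nat.sub_dvd_pow_sub_pow (q ^ 2) 1 j) q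
  have h2 : 1 ≤ (q ^ 2) ^ j := Nat.one_le_pow _ _ (Nat.pow_pos (by omega))
  have e : (q ^ 2) ^ j * q - 1 = ((q ^ 2) ^ j - 1) * q + (q - 1) := by
    rw [Nat.sub_mul, one_mul]
    have : q ≤ (q ^ 2) ^ j * q := Nat.le_mul_of_pos_left q (by omega)
    omega
  rw [e] at hd
  have h3 := Nat.le_of_dvd (by omega) ((Nat.dvd_add_right h1).1 hd)
  have h4 : q < q ^ 2 := by nlinarith
  omega

end CfsgLib.Classical.FieldExtOrth3
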