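import Cfsg.Agent.Lib.Classical.FieldExtOrth3.Grow

/-!
# A Siegel element of a singular line
-/

set_option autoImplicit false
set_option linter.unusedSectionVars false

namespace CfsgLib.Classical.FieldExtOrth3

open Module QuadraticMap CfsgLib.Orth CfsgLib.Classical CfsgLib.Classical.FieldExtMax

variable {F K V : Type*} [Field F] [Field K] [Algebra F K] [AddCommGroup V] [Module F V] [Module K V]
  [IsScalarTower F K V] [FiniteDimensional F K] [FiniteDimensional K V] [FiniteDimensional F V]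
  {Q : QuadraticForm F V} {φ : V →ₗ[K] V →ₗ[K] K} {f : K →ₗ[F] F} {M : Subgroup (orthGroup Q)}

variable (h : Set3 Q φ f M)
include h

/-- The root, once the position is fixed. -/
theorem Set3.root_of_hyperplane {B : Frame φ} {P : Submodule F V} {y : V} (hA : Adj φ M B P y)
    (hd : finrank F (P ⊓ line F K B.a : Submodule F V) + 1 = finrank F K) {ε k₀ : K}
    (hε : ∀ k : K, k • B.a ∈ P → f (ε * k) = 0) (hk₀ : f (ε * k₀) = 1)
    (hX : ∀ c : F, algebraMap F K c ≠ ε * φ B.c B.c / (φ B.c y * φ B.c y)) :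
    ∃ c : K, (∀ t : F, algebraMap F K t ≠ c) ∧ SiegelIn M B.a (c • B.a) := by
  classical
  have hcc := B.cc
  set δ := φ B.c B.c with hδ
  have h2 := h.twoK
  have hca : φ B.c B.a = 0 := by rw [h.symm, B.ac]
  have hba : φ B.b B.a = 1 := by rw [h.symm, B.ab]
  have ha0 : B.a ≠ 0 := fun e => one_ne_zero (α := K) (by rw [← B.ab, e]; simp)
  set D := P ⊓ line F K B.a with hD
  set η := φ B.c y with hη
  have hη0 : η ≠ 0 := fun e => hA.y_not ((h.mem_line_iff B).2 ⟨hA.perp, e⟩)
  have hy0 : y ≠ 0 := fun e => hA.y_not (e ▸ (line F K B.a).zero_mem)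
  -- `P` is the sum of the intersection and the further vector
  have hPdec : ∀ x ∈ P, ∃ t : F, x - t • y ∈ D := by
    refine exists_of_hyperplane inf_le_left hA.y_mem (fun e => hA.y_not e.2) ?_
    rw [hA.img.finrank_eq]
    exact hd.ge
  have hPperp : ∀ x ∈ P, φ B.a x = 0 := fun x hx => by
    obtain ⟨t, ht⟩ := hPdec x hx
    have h1 := ((h.mem_line_iff B).1 ht.2).1
    simpa [LinearMap.map_smul_of_tower, hA.perp] using h1
  have hkerε : ∀ k : K, f (ε * k) = 0 → k • B.a ∈ P := by
    set S := (LinearMap.toSpanSingleton K V B.a).restrictScalars F with hS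
    have hSinj : Function.Injective S := smul_left_injective K ha0
    have hle : P.comap S ≤ LinearMap.ker (f ∘ₗ LinearMap.mulLeft F ε) := fun k hk => hε k hk
    have hfin : finrank F (P.comap S) = finrank F D := by
      rw [(Submodule.equivMapOfInjective S hSinj _).finrank_eq, Submodule.map_comap_eq]
      refine congrArg (fun W : Submodule F V => finrank F W) ?_
      rw [hD, inf_comm]
      congr 1
      ext x
      exact ⟨fun ⟨k, hk⟩ => mem_line.2 ⟨k, hk⟩, fun hx => by obtain ⟨k, hk⟩ := mem_line.1 hx; exact ⟨k, hk⟩⟩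
    have hlt : finrank F (LinearMap.ker (f ∘ₗ LinearMap.mulLeft F ε)) < finrank F K :=
      Submodule.finrank_lt fun e => by
        have h1 : k₀ ∈ LinearMap.ker (f ∘ₗ LinearMap.mulLeft F ε) := e ▸ Submodule.mem_top
        have h3 : f (ε * k₀) = 0 := h1
        rw [hk₀] at h3
        exact one_ne_zero h3
    have heq := Submodule.eq_of_le_of_finrank_le hle (by rw [hfin]; omega)
    intro k hk
    exact heq.ge (show k ∈ LinearMap.ker (f ∘ₗ LinearMap.mulLeft F ε) from hk)
  have hε1 : f ε = 0 := by simpa using hε 1 (by simpa using hA.a_mem)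
  -- the transvection fixing `P`
  obtain ⟨g₀, hg₀, a₀, ha₀0, ha₀, hPg⟩ := id hA.img
  obtain ⟨B₀, hB₀⟩ := h.exists_frame ha₀ ha₀0
  have hP₀ : ∀ x ∈ P, ∃ k : K, x = g₀.1 (k • a₀) := fun x hx => by
    obtain ⟨w, hw, rfl⟩ := hPg.le hx
    obtain ⟨k, rfl⟩ := mem_line.1 hw
    exact ⟨k, rfl⟩
  have hg₀perp : ∀ x, (∀ p ∈ P, polar Q x p = 0) → φ B₀.a (g₀.1.symm x) = 0 := fun x hx => by
    rw [h.symm]
    refine h.phi_eq_zero fun m => ?_
    rw [← polar_isom g₀, g₀.1.apply_symm_apply, hB₀]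
    exact hx _ (hPg.ge ⟨_, smul_mem_line a₀ m, rfl⟩)
  have hperpa : ∀ x, φ B.a x = 0 → ∀ k : K, polar Q x (k • B.a) = 0 := fun x hx k => by
    rw [h.polar_smul_right, h.symm, hx, mul_zero, map_zero]
  set l₁ := g₀.1.symm (k₀ • B.a) with hl₁
  have hl₁a : φ B₀.a l₁ = 0 := hg₀perp _ fun p hp => by
    rw [h.polar_smul_left, hPperp p hp, mul_zero, map_zero]
  have hl₁c : φ B₀.c l₁ ≠ 0 := fun e => by
    have h1 : l₁ ∈ line F K a₀ := hB₀ ▸ (h.mem_line_iff B₀).2 ⟨hl₁a, e⟩
    have h3 := hε k₀ (hPg.ge ⟨l₁, h1, g₀.1.apply_symm_apply _⟩)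
    rw [hk₀] at h3
    exact one_ne_zero h3
  obtain ⟨ka, hka⟩ := hP₀ _ hA.a_mem
  set s := -(ka / φ B₀.c l₁) with hs
  set q := g₀ * h.root B₀ s * g₀⁻¹ with hq
  set qi := g₀ * h.root B₀ (-s) * g₀⁻¹ with hqi
  have hqM : q ∈ M := mul_mem (mul_mem hg₀ (h.root_mem B₀ s)) (inv_mem hg₀)
  have hqiq : qi = q⁻¹ := by
    have e : h.root B₀ (-s) * h.root B₀ s = 1 := by rw [← h.root_add, neg_add_cancel, h.root_zero]
    rw [hqi, hq, eq_inv_of_mul_eq_one_left e]
    group
  have hfix : ∀ (t : K), ∀ x ∈ P, (g₀ * h.root B₀ t * g₀⁻¹).1 x = x := by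
    intro t x hx
    obtain ⟨k, rfl⟩ := hP₀ x hx
    show g₀.1 ((h.root B₀ t).1 (g₀.1.symm (g₀.1 (k • a₀)))) = _
    rw [g₀.1.symm_apply_apply, ← hB₀, h.root_fix]
  have hql₀ : q.1 (k₀ • B.a) = k₀ • B.a + B.a := by
    show g₀.1 ((h.root B₀ s).1 l₁) = _
    rw [h.root_perp B₀ s hl₁a, hs, neg_mul, div_mul_cancel₀ _ hl₁c, neg_smul, sub_neg_eq_add, map_add, hl₁,
      g₀.1.apply_symm_apply, hB₀, ← hka]
  have hqline : ∀ k : K, q.1 (k • B.a) = k • B.a + f (ε * k) • B.a := fun k => by
    have h1 : q.1 ((k - f (ε * k) • k₀) • B.a) = (k - f (ε * k) • k₀) • B.a :=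
      hfix s _ (hkerε _ (by rw [mul_sub, map_sub, mul_smul_comm, map_smul, hk₀, smul_eq_mul, mul_one, sub_self]))
    rw [sub_smul, map_sub, smul_assoc, q.1.map_smul (f (ε * k)), hql₀, smul_add, sub_eq_iff_eq_add] at h1
    rw [h1]; abel
  have hqiline : ∀ k : K, qi.1 (k • B.a) = k • B.a - f (ε * k) • B.a := fun k => by
    rw [hqiq]
    refine q.1.symm_apply_eq.2 ?_
    rw [map_sub, q.1.map_smul (f (ε * k)), hqline, show q.1 B.a = B.a from hfix s _ hA.a_mem, add_sub_cancel_right]
  have hqiperp : ∀ x, φ B.a x = 0 → φ B.a (qi.1 x) = 0 := fun x hx => by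
    rw [h.symm]
    refine h.phi_eq_zero fun k => ?_
    rw [← polar_isom q, hqiq, inv_apply, hqline, polar_add_right, hperpa x hx k, zero_add, polar_smul_r']
    simpa using Or.inr (hperpa x hx 1)
  let qb : K →ₗ[F] K := (φ B.c).restrictScalars F ∘ₗ qi.1.toLinearMap ∘ₗ
    (LinearMap.toSpanSingleton K V (δ⁻¹ • B.c)).restrictScalars F
  have hqb : ∀ z, qb z = φ B.c (qi.1 ((z / δ) • B.c)) := fun z => by
    show φ B.c (qi.1 (z • δ⁻¹ • B.c)) = _
    rw [smul_smul, div_eq_mul_inv]
  have hκc : ∀ z, φ B.c ((z / δ) • B.c) = z := fun z => by simp [← hδ, hcc]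
  have hαc : ∀ z : K, φ B.a ((z / δ) • B.c) = 0 := fun z => by simp [B.ac]
  have hdec : ∀ x, φ B.a x = 0 → x = φ B.b x • B.a + (φ B.c x / δ) • B.c := fun x hx => by
    conv_lhs => rw [h.decomp B x, hx, zero_smul, add_zero]
  have hphi : ∀ x x', φ B.a x = 0 → φ B.a x' = 0 → φ x x' = φ B.c x * φ B.c x' / δ := fun x x' hx hx' => by
    conv_lhs => rw [hdec x hx]
    simp only [map_add, map_smul, LinearMap.add_apply, LinearMap.smul_apply, smul_eq_mul, hx', mul_zero, zero_add]
    ring
  have hκqi : ∀ x, φ B.a x = 0 → φ B.c (qi.1 x) = qb (φ B.c x) := fun x hx => by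
    conv_lhs => rw [hdec x hx]
    rw [map_add, hqiline, map_add, map_sub, hqb, map_smul (φ B.c), LinearMap.map_smul_of_tower, hca]
    simp
  have hiso : ∀ z z', f (qb z * qb z' / δ) = f (z * z' / δ) := fun z z' => by
    rw [hqb, hqb, ← hphi _ _ (hqiperp _ (hαc z)) (hqiperp _ (hαc z')), ← h.eq, polar_isom, h.eq,
      hphi _ _ (hαc z) (hαc z'), hκc, hκc]
  have hηfix : qb η = η := by
    rw [← hκqi y hA.perp, hfix (-s) y hA.y_mem]
  have hηperp : ∀ z, f (z * η / δ) = 0 → ∃ t : F, qb z = z + t • η := by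
    intro z hz
    set x := (z / δ) • B.c with hx
    have h1 : φ B₀.a (g₀.1.symm x) = 0 := hg₀perp x fun p hp => by
      obtain ⟨t, ht⟩ := hPdec p hp
      obtain ⟨k, hk⟩ := mem_line.1 ht.2
      have e : p = k • B.a + t • y := by rw [hk, sub_add_cancel]
      rw [e, polar_add_right, hperpa x (hαc z) k, zero_add, polar_smul_r', h.eq, hphi _ _ (hαc z) hA.perp, hκc,
        ← hη, hz, mul_zero]
    have h3 : qi.1 x - x ∈ P := by
      have e : qi.1 x - x = g₀.1 (-((-s * φ B₀.c (g₀.1.symm x)) • B₀.a)) := by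
        show g₀.1 ((h.root B₀ (-s)).1 (g₀.1.symm x)) - x = _
        rw [h.root_perp B₀ _ h1, map_sub, g₀.1.apply_symm_apply, map_neg]
        abel
      rw [e, hB₀, ← neg_smul]
      exact hPg.ge ⟨_, smul_mem_line a₀ _, rfl⟩
    obtain ⟨t, ht⟩ := hPdec _ h3
    refine ⟨t, ?_⟩
    have h4 := ((h.mem_line_iff B).1 ht.2).2
    rw [map_sub, map_sub, LinearMap.map_smul_of_tower (φ B.c) t y, hx, hκc, ← hqb, ← hη, sub_eq_zero, sub_eq_iff_eq_add] at h4
    rw [h4, add_comm]
  obtain ⟨e, he⟩ := h.exists_scalar (div_ne_zero hη0 hcc) (1 : F)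
  rw [← mul_div_assoc] at he
  set v := qb e - e with hv
  have hvη : f (v * η / δ) = 0 := by
    have h1 := hiso e η
    rw [hηfix] at h1
    rw [hv, sub_mul, sub_div, map_sub, h1, sub_self]
  have hform : ∀ z, qb z = z + f (z * η / δ) • v - (f (z * v / δ) - f (z * η / δ) * f (e * v / δ)) • η := by
    intro z
    set u := f (z * η / δ) with hu
    obtain ⟨t, ht⟩ := hηperp (z - u • e) (by
      rw [sub_mul, sub_div, map_sub, smul_mul_assoc, smul_div_assoc, map_smul, he, smul_eq_mul, mul_one, ← hu,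
        sub_self])
    have h1 := hiso (z - u • e) e
    rw [ht, show qb e = e + v by rw [hv]; abel] at h1
    simp only [add_mul, mul_add, sub_mul, smul_mul_assoc, add_div, sub_div, smul_div_assoc, map_add, map_sub,
      map_smul, smul_eq_mul] at h1
    rw [show η * e / δ = e * η / δ by ring, show η * v / δ = v * η / δ by ring, he, hvη, mul_one, mul_zero,
      add_zero] at h1
    have ht' : t = -(f (z * v / δ) - u * f (e * v / δ)) := by linear_combination h1
    rw [map_sub, map_smul, show qb e = e + v by rw [hv]; abel, ht'] at ht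
    rw [sub_eq_iff_eq_add] at ht
    rw [ht, smul_add, neg_smul]
    abel
  -- the commutator fixing the line
  set j := η⁻¹ with hj
  have hjη : j * η = 1 := inv_mul_cancel₀ hη0
  set E := h.root B (-j) with hE
  set Ei := h.root B j with hEi
  have hEEi : Ei = E⁻¹ := by
    rw [hE, hEi]
    refine eq_inv_of_mul_eq_one_left ?_
    rw [← h.root_add, add_neg_cancel, h.root_zero]
  set c₀ := f (e * v / δ) + f (ε * (j * v)) with hc₀
  set Mc := j * v + c₀ • (1 : K) with hMc
  set W := v / δ - ε * j with hW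
  set N := η / δ with hN
  set C := E * q * E⁻¹ * q⁻¹ with hC
  have hCM : C ∈ M := mul_mem (mul_mem (mul_mem (h.root_mem B _) hqM) (inv_mem (h.root_mem B _))) (inv_mem hqM)
  have hCperp : ∀ x, φ B.a x = 0 →
      C.1 x = x + (f (W * φ B.c x) • (1 : K) - f (N * φ B.c x) • Mc) • B.a := by
    intro x hx
    set z := φ B.c x with hz
    show E.1 (q.1 ((E⁻¹).1 ((q⁻¹).1 x))) = _
    rw [← hqiq, ← hEEi, hEi, h.root_perp B j (hqiperp x hx), hκqi x hx, ← hz, map_sub, hqiq, inv_apply, hqline,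
      hE, h.root_perp B (-j) (by simp [hx, B.aa, LinearMap.map_smul_of_tower])]
    rw [map_sub, map_add, map_smul, LinearMap.map_smul_of_tower, hca, ← hz]
    simp only [smul_zero, add_zero, sub_zero]
    have key : -(j * qb z) - f (ε * (j * qb z)) • (1 : K) + j * z = f (W * z) • (1 : K) - f (N * z) • Mc := by
      rw [hform z]
      simp only [mul_add, mul_sub, mul_smul_comm, hjη, mul_one, map_add, map_sub, map_smul, smul_eq_mul, hε1,
        mul_zero, sub_zero, hW, hN, hMc, hc₀, sub_mul]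
      rw [show v / δ * z = z * v / δ by ring, show η / δ * z = z * η / δ by ring, mul_assoc ε j z]
      module
    rw [← key, add_smul, sub_smul, neg_smul, smul_assoc, one_smul, neg_mul, neg_smul]
    abel
  have hCline : ∀ k : K, C.1 (k • B.a) = k • B.a := fun k => by
    rw [hCperp _ (by simp [B.aa]), map_smul, hca]
    simp
  have hCimg : ∀ x, φ B.a (C.1 x - x) = 0 := fun x => by
    rw [h.symm]
    refine h.phi_eq_zero fun k => ?_
    rw [polar_sub_left]
    conv_lhs => arg 1; rw [← hCline k, polar_isom]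
    rw [sub_self]
  have hCw : ∀ x, φ B.c (C.1 x - x) =
      -δ * (f (φ B.a x) • W - f (φ B.a x * Mc) • N) := by
    intro x
    set α := φ B.a x with hα
    set ν := φ B.c (C.1 x - x) with hν
    refine eq_of_sub_eq_zero ?_
    have h0 : (ν - -δ * (f α • W - f (α * Mc) • N)) / δ = 0 := by
      refine h.eq_zero_of_pairing fun z => ?_
      set z₀ := (z / δ) • B.c with hz₀
      set G := f (W * z) • (1 : K) - f (N * z) • Mc with hG
      have h1 : polar Q (C.1 x) (C.1 z₀) = polar Q x z₀ := polar_isom C x z₀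
      rw [hCperp z₀ (hαc z), hz₀, hκc, ← hG, ← hz₀, show C.1 x = x + (C.1 x - x) by abel, polar_add_left,
        polar_add_right, polar_add_right, hperpa _ (hCimg x) G, add_zero] at h1
      have h3 : polar Q (C.1 x - x) z₀ = f (ν * z / δ) := by
        rw [h.eq, hphi _ _ (hCimg x) (hαc z), hκc]
      have h4 : polar Q x (G • B.a) = f (G * α) := by rw [h.polar_smul_right, h.symm]
      rw [h3, h4, add_assoc, add_eq_left] at h1
      have h5 : f (G * α) = f α * f (W * z) - f (α * Mc) * f (N * z) := by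
        rw [hG, sub_mul, map_sub, smul_mul_assoc, smul_mul_assoc, map_smul, map_smul, one_mul, smul_eq_mul,
          smul_eq_mul, mul_comm Mc α]
        ring
      rw [show z * ((ν - -δ * (f α • W - f (α * Mc) • N)) / δ) = ν * z / δ + (f α • (W * z) - f (α * Mc) • (N * z))
        by rw [Algebra.smul_def, Algebra.smul_def, Algebra.smul_def, Algebra.smul_def]; field_simp; ring,
        map_add, map_sub, map_smul, map_smul, smul_eq_mul, smul_eq_mul, ← h5, add_comm, h1]
    exact (div_eq_zero_iff.1 h0).resolve_right hcc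
  -- the two candidates
  have hroot : ∀ J c : K, (∀ α : K, J * (f α • W - f (α * Mc) • N) -
      (f (W * (J * α)) • (1 : K) - f (N * (J * α)) • Mc) = f α • c - f (c * α) • (1 : K)) →
      SiegelIn M B.a (c • B.a) := by
    intro J c hJ
    set R := h.root B (J / δ) with hR
    set g := R * C * R⁻¹ * C⁻¹ with hg
    have hgM : g ∈ M := mul_mem (mul_mem (mul_mem (h.root_mem B _) hCM) (inv_mem (h.root_mem B _))) (inv_mem hCM)
    have hQa : Q B.a = 0 := h.quad_zero B.aa
    have hQca : Q (c • B.a) = 0 := h.quad_zero (by simp [B.aa])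
    have hgS : IsSiegel g B.a (c • B.a) := by
      refine ⟨hQa, hperpa B.a B.aa c, fun w => ?_⟩
      obtain ⟨x, rfl⟩ : ∃ x, C.1 (R.1 x) = w :=
        ⟨(R⁻¹).1 ((C⁻¹).1 w), by rw [inv_apply, inv_apply]⟩
      show R.1 (C.1 ((R⁻¹).1 ((C⁻¹).1 (C.1 (R.1 x))))) = _
      rw [show (C⁻¹).1 (C.1 (R.1 x)) = R.1 x from C.1.symm_apply_apply _,
        show (R⁻¹).1 (R.1 x) = x from R.1.symm_apply_apply _]
      set α := φ B.a x with hα
      have hRx : φ B.a (R.1 x) = α := by rw [hR, h.root_apply]; simp [B.aa, B.ac, hα]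
      have hαw : φ B.a (C.1 (R.1 x)) = α := by
        have := hCimg (R.1 x)
        rwa [map_sub, sub_eq_zero, hRx] at this
      have e1 : R.1 (C.1 x) = R.1 x + ((C.1 x - x) - (J / δ * φ B.c (C.1 x - x)) • B.a) := by
        rw [← h.root_perp B (J / δ) (hCimg x), ← hR, ← map_add, add_sub_cancel]
      have e2 : C.1 (R.1 x) = C.1 x + ((R.1 x - x) + (f (W * (J * α)) • (1 : K) - f (N * (J * α)) • Mc) • B.a) := by
        have h6 : φ B.a (R.1 x - x) = 0 := by rw [map_sub, hRx, sub_self]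
        have h7 : φ B.c (R.1 x - x) = J * α := by
          rw [hR, h.root_apply, ← hα]
          simp [hca, ← hδ]
          field_simp
        have h8 := hCperp _ h6
        rw [h7] at h8
        rw [← h8, ← map_add, add_sub_cancel]
      have hpa : polar Q B.a (C.1 (R.1 x)) = f α := by rw [h.eq, hαw]
      have hpc : polar Q (c • B.a) (C.1 (R.1 x)) = f (c * α) := by rw [h.polar_smul_left, hαw]
      rw [hpa, hpc, hQca, zero_mul, sub_zero, e1, e2, hCw x]
      have e3 : J / δ * (-δ * (f α • W - f (α * Mc) • N)) = -(J * (f α • W - f (α * Mc) • N)) := by field_simp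
      rw [e3]
      have e4 := congrArg (fun k : K => k • B.a) (hJ α)
      simp only [sub_smul, smul_assoc, one_smul] at e4
      simp only [sub_smul, smul_assoc, one_smul, neg_smul]
      linear_combination (norm := module) e4
    intro g' hg'
    rw [hg'.unique hgS]
    exact hgM
  have hN0 : N ≠ 0 := div_ne_zero hη0 hcc
  by_cases hc : ∀ t : F, algebraMap F K t ≠ Mc + W / N
  · refine ⟨_, hc, hroot (1 / N) _ fun α => ?_⟩
    rw [show N * (1 / N * α) = α by field_simp, show W * (1 / N * α) = W / N * α by ring,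
      show (Mc + W / N) * α = α * Mc + W / N * α by ring, map_add]
    simp only [Algebra.smul_def, map_add]
    field_simp
    ring
  · push Not at hc
    obtain ⟨w, hw⟩ := hc
    refine ⟨Mc * W / N, fun t ht => ?_, hroot (Mc / N) _ fun α => ?_⟩
    · set X := ε * δ / (η * η) with hX'
      have e1 : Mc + W / N = 2 * (v / η) + algebraMap F K c₀ - X := by
        rw [hMc, hW, hN, hX', hj, Algebra.smul_def]
        field_simp
        ring
      have e2 : Mc * W / N = (v / η + algebraMap F K c₀) * (v / η - X) := by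
        rw [hMc, hW, hN, hX', hj, Algebra.smul_def]
        field_simp
      obtain ⟨u, hu⟩ := h.quad_mem (x := X + algebraMap F K c₀) (s := 0) (t := w * w - 4 * t) (by
        rw [e1] at hw
        rw [e2] at ht
        rw [zero_smul, zero_add, Algebra.smul_def, map_sub, map_mul, map_mul, map_ofNat, mul_one, hw, ht]
        ring)
      exact hX (u - c₀) (by rw [map_sub, hu, hX']; ring)
    · rw [show N * (Mc / N * α) = α * Mc by field_simp, show W * (Mc / N * α) = Mc * W / N * α by ring]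
      simp only [Algebra.smul_def]
      field_simp
      ring

/-- A singular line with a Siegel element of `M`. -/
theorem Set3.exists_line_root [Finite F] {g : orthGroup Q} (hg : g ∈ M)
    (hne : ∃ x, ∃ k : K, g.1 (k • x) ∉ line F K (g.1 x)) :
    ∃ (B : Frame φ) (c : K), (∀ t : F, algebraMap F K t ≠ c) ∧ SiegelIn M B.a (c • B.a) := by
  classical
  rcases h.exists_hyperplane hg hne with ⟨B, P, y, hA, hd⟩ | hroot
  swap
  · exact hroot
  have hcc := B.cc
  have ha0 : B.a ≠ 0 := fun e => one_ne_zero (α := K) (by rw [← B.ab, e]; simp)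
  have hη0 : φ B.c y ≠ 0 := fun e => hA.y_not ((h.mem_line_iff B).2 ⟨hA.perp, e⟩)
  set S := (LinearMap.toSpanSingleton K V B.a).restrictScalars F with hS
  set Dk := P.comap S with hDk
  have hfin : finrank F Dk + 1 = finrank F K := by
    rw [(Submodule.equivMapOfInjective S (smul_left_injective K ha0) Dk).finrank_eq, hDk, Submodule.map_comap_eq]
    rw [inf_comm (LinearMap.range S), show LinearMap.range S = line F K B.a from ?_]
    · exact hd
    ext x
    exact ⟨fun ⟨k, hk⟩ => mem_line.2 ⟨k, hk⟩, fun hx => by obtain ⟨k, hk⟩ := mem_line.1 hx; exact ⟨k, hk⟩⟩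
  obtain ⟨k₀, hk₀⟩ : ∃ k : K, k ∉ Dk := by
    by_contra hno
    push Not at hno
    rw [(eq_top_iff.2 fun k _ => hno k : Dk = ⊤), finrank_top] at hfin
    omega
  obtain ⟨ε₀, hε₀, hε₀k⟩ := h.exists_scalar_perp hk₀
  have hε₀0 : ε₀ ≠ 0 := fun e => by rw [e, zero_mul, map_zero] at hε₀k; exact zero_ne_one hε₀k
  set γ := ε₀ * φ B.c B.c / (φ B.c y * φ B.c y) with hγ
  obtain ⟨p, hp, hpX⟩ : ∃ p ∈ Dk, ∀ c : F, algebraMap F K c ≠ γ * p := by
    by_contra hno
    push Not at hno
    have hγ0 : γ ≠ 0 := div_ne_zero (mul_ne_zero hε₀0 hcc) (mul_ne_zero hη0 hη0)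
    have hle : Dk ≤ F ∙ γ⁻¹ := fun p hp => by
      obtain ⟨c, hc⟩ := hno p hp
      exact Submodule.mem_span_singleton.2 ⟨c, by rw [Algebra.smul_def, hc]; field_simp⟩
    have h1 := Submodule.finrank_mono hle
    rw [finrank_span_singleton (inv_ne_zero hγ0)] at h1
    have := h.three
    omega
  have hp0 : p ≠ 0 := fun e => hpX 0 (by simp [e])
  let B' : Frame φ := ⟨p • B.a, p⁻¹ • B.b, B.c, by simp [B.aa], by simp [B.bb], by simp [B.ab, hp0],
    by simp [B.ac], by simp [B.bc], hcc⟩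
  have hline : line F K B'.a = line F K B.a :=
    line_eq_of_mem (smul_mem_line B.a p) (smul_ne_zero hp0 ha0)
  have hA' : Adj φ M B' P y := ⟨hA.img, hp, hA.y_mem, by
    show φ (p • B.a) y = 0
    rw [map_smul, LinearMap.smul_apply, hA.perp, smul_zero], hline ▸ hA.y_not⟩
  refine ⟨B', h.root_of_hyperplane hA' (by rw [hline]; exact hd) (ε := ε₀ * p) (k₀ := k₀ / p) (fun k hk => ?_)
    ?_ fun c => ?_⟩
  · have h1 : (p * k) ∈ Dk := by
      show (p * k) • B.a ∈ P
      rw [mul_comm, mul_smul]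
      exact hk
    rw [mul_assoc]
    exact hε₀ _ h1
  · rw [mul_assoc, mul_div_cancel₀ _ hp0, hε₀k]
  · have := hpX c
    rwa [hγ, show ε₀ * φ B.c B.c / (φ B.c y * φ B.c y) * p = ε₀ * p * φ B.c B.c / (φ B.c y * φ B.c y) by ring] at this

end CfsgLib.Classical.FieldExtOrth3
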